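import Cfsg.Agent.R4.C
import Cfsg.Agent.R4.K7

/-! Nonsolvable subgroups of `A₈`. -/

set_option autoImplicit false
set_option linter.unusedVariables false
set_option linter.unusedSectionVars false

namespace R4

open Cfsg Subgroup Equiv MulAction

variable {Y : Type*} [Group Y] [Finite Y]

theorem four_dvd (hn : ¬ Group.IsSolvable Y) : 4 ∣ Nat.card Y := by
  by_contra h
  have o : ∀ D : Subgroup Y, ¬ 2 ∣ Nat.card D → Group.IsSolvable D := fun D h =>
    GW.odd_solv (Nat.odd_iff.2 (by omega))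
  obtain ⟨P⟩ : Nonempty (Sylow 2 Y) := inferInstance
  by_cases e : 2 ∣ Nat.card Y
  · obtain ⟨n, hP⟩ := P.isPGroup'.exists_card_eq
    have a1 : 2 ^ n ∣ Nat.card Y := hP ▸ (P : Subgroup Y).card_subgroup_dvd_card
    have : n ≤ 1 := by
      by_contra c
      exact h ((Nat.pow_dvd_pow 2 (by omega : 2 ≤ n)).trans a1)
    have cy : IsCyclic P := by
      interval_cases n
      · have := (Nat.card_eq_one_iff_unique.1 hP).1; exact isCyclic_of_subsingleton
      · exact isCyclic_of_prime_card (p := 2) hP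
    have hm : (Nat.card Y).minFac = 2 := (Nat.minFac_eq_two_iff _).2 e
    have c := IsCyclic.isComplement' hm cy
    have := o _ (c.index_eq_card ▸ P.not_dvd_index)
    have := H5.isSolvable_of_isPGroup P.isPGroup'
    exact hn (Group.isSolvable_of_ker_le_range (Subgroup.subtype _)
      (MonoidHom.transferSylow P (cy.normalizer_le_centralizer hm)) (range_subtype _).ge)
  · exact hn (GW.solv_top (o _ (by rwa [card_top])))

theorem dv12 {a b r : ℕ} (hr : r.Prime) (r2 : r ≠ 2) (r3 : r ≠ 3) (hn : ¬ Group.IsSolvable Y)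
    (h : Nat.card Y ∣ 2 ^ a * 3 ^ b * r) : 12 * r ∣ Nat.card Y := by
  have e1 : r ∣ Nat.card Y := by_contra fun e => hn (H8.isSolvable_of_card_dvd_prime_pow_mul Nat.prime_two
    Nat.prime_three a b _ Y rfl (((hr.coprime_iff_not_dvd.2 e).symm).dvd_of_dvd_mul_right h))
  have e2 : 3 ∣ Nat.card Y := by_contra fun e => hn (H8.isSolvable_of_card_dvd_prime_pow_mul Nat.prime_two
    hr a 1 _ Y rfl ((((Nat.prime_three.coprime_iff_not_dvd.2 e).symm).pow_right b).dvd_of_dvd_mul_right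
      (by rwa [pow_one, mul_right_comm])))
  exact Nat.Coprime.mul_dvd_of_dvd_of_dvd (Nat.Coprime.mul_left (k := r) (m := 4) (n := 3)
    (((Nat.coprime_primes Nat.prime_two hr).2 r2.symm).pow_left 2)
    ((Nat.coprime_primes Nat.prime_three hr).2 r3.symm))
    (Nat.Coprime.mul_dvd_of_dvd_of_dvd (m := 4) (n := 3) (by norm_num) (four_dvd hn) e2) e1

theorem emb {Ω : Type*} [Finite Ω] (σ : Y →* Perm Ω) (S : Set Ω) (h : ∀ g, ∀ x ∈ S, σ g x ∈ S) {m : ℕ}
    (c : S.ncard = m) : ∃ φ : Y →* Perm (Fin m), ∀ g, φ g = 1 ↔ ∀ x ∈ S, σ g x = x := by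
  let _ := MulAction.compHom Ω σ
  let T : SubMulAction Y Ω := ⟨S, fun g x hx => h g x hx⟩
  obtain ⟨e⟩ : Nonempty (T ≃ Fin m) := Finite.card_eq.1 (by rw [Nat.card_fin]; exact c)
  refine ⟨e.permCongrHom.toMonoidHom.comp (toPermHom Y T), fun g => ?_⟩
  exact (e.permCongrHom.map_eq_one_iff.trans Equiv.ext_iff).trans
    ⟨fun h x hx => congrArg Subtype.val (h ⟨x, hx⟩), fun h x => Subtype.ext (h x x.2)⟩

theorem coset_emb (J : Subgroup Y) (hc : J.normalCore = ⊥) {m : ℕ} (hm : J.index = m + 1) :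
    ∃ φ : J →* Perm (Fin m), Function.Injective φ := by
  have f : ∀ g : J, (g : Y) • ((1 : Y) : Y ⧸ J) = (1 : Y) := fun g => by
    rw [Quotient.smul_coe, QuotientGroup.eq]; simp
  obtain ⟨φ, h⟩ := emb ((toPermHom Y (Y ⧸ J)).comp J.subtype) {((1 : Y) : Y ⧸ J)}ᶜ (m := m)
    (fun g x hx e => hx (smul_left_cancel (g : Y) (e.trans (f g).symm))) (by
      have := Set.ncard_add_ncard_compl {((1 : Y) : Y ⧸ J)}
      rw [Set.ncard_singleton, ← index_eq_card] at this; omega)
  refine ⟨φ, (injective_iff_map_eq_one _).2 fun g e => Subtype.ext (hc.le ?_)⟩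
  rw [normalCore_eq_ker]
  refine Equiv.ext fun x => ?_
  by_cases r : x = (1 : Y)
  exacts [r ▸ f g, (h g).1 e x r]

theorem rng {m : ℕ} {J : Subgroup (Perm (Fin m))} (h : alternatingGroup (Fin m) ≤ J) :
    Nonempty (J ≃* alternatingGroup (Fin m)) ∨ Nonempty (J ≃* Perm (Fin m)) := by
  by_cases e : J ≤ alternatingGroup (Fin m)
  · exact Or.inl ⟨MulEquiv.subgroupCongr (le_antisymm e h)⟩
  obtain ⟨x, hx, x1⟩ := SetLike.not_le_iff_exists.1 e
  refine Or.inr ⟨(MulEquiv.subgroupCongr (eq_top_iff.2 fun y _ => ?_)).trans topEquiv⟩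
  by_cases r : y ∈ alternatingGroup (Fin m)
  · exact h r
  · refine (mul_mem_cancel_left hx).1 (h ?_)
    rw [Perm.mem_alternatingGroup] at *
    rw [map_mul, (Int.units_eq_one_or _).resolve_left r, (Int.units_eq_one_or _).resolve_left x1]; rfl

theorem core_bot {m : ℕ} (hm : 5 ≤ m) {J : Subgroup (Perm (Fin m))} (h : ¬ alternatingGroup (Fin m) ≤ J) :
    J.normalCore = ⊥ ∧ m.factorial ∣ J.index.factorial := by
  have e : J.normalCore = ⊥ := by_contra fun e => h ((Perm.alternatingGroup_le_of_normal (by simpa)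
    ((nontrivial_iff_ne_bot _).2 e)).trans (normalCore_le J))
  refine ⟨e, ?_⟩
  have := card_dvd_of_injective _ ((MonoidHom.ker_eq_bot_iff _).1 (normalCore_eq_ker J ▸ e))
  rwa [Nat.card_perm, Nat.card_perm, Nat.card_fin] at this

theorem S5 {J : Subgroup (Perm (Fin 5))} (hn : ¬ Group.IsSolvable J) : alternatingGroup (Fin 5) ≤ J := by
  by_contra h
  have e := J.card_mul_index
  rw [Nat.card_perm, Nat.card_fin] at e
  obtain ⟨k, hk⟩ := dv12 (a := 3) (b := 1) Nat.prime_five (by norm_num) (by norm_num) hn (Dvd.intro _ e)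
  have := (core_bot le_rfl h).2
  have e2 : J.index ≤ 2 := Nat.le_of_dvd two_pos ⟨k, by rw [hk] at e; simp [Nat.factorial] at e; nlinarith⟩
  interval_cases J.index <;> simp [Nat.factorial] at this

/-- the list of possible quotients without the first one -/
def Al (Y : Type*) [Group Y] : Prop := (∃ n : ℕ, 5 ≤ n ∧ n ≤ 8 ∧ Nonempty (Y ≃* alternatingGroup (Fin n))) ∨
  ∃ n : ℕ, 5 ≤ n ∧ n ≤ 7 ∧ Nonempty (Y ≃* Perm (Fin n))

theorem al_of {m : ℕ} (h5 : 5 ≤ m) (h7 : m ≤ 7) (φ : Y →* Perm (Fin m)) (i : Function.Injective φ)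
    (h : alternatingGroup (Fin m) ≤ φ.range) : Al Y :=
  (rng h).imp (fun ⟨e⟩ => ⟨m, h5, by omega, ⟨(MonoidHom.ofInjective i).trans e⟩⟩)
    fun ⟨e⟩ => ⟨m, h5, h7, ⟨(MonoidHom.ofInjective i).trans e⟩⟩

theorem ns_eq {Z : Type*} [Group Z] (e : Y ≃* Z) (hn : ¬ Group.IsSolvable Y) : ¬ Group.IsSolvable Z :=
  fun _ => hn (Group.isSolvable_of_isSolvable_injective (f := e.toMonoidHom) e.injective)

theorem al5 (hn : ¬ Group.IsSolvable Y) (φ : Y →* Perm (Fin 5)) (i : Function.Injective φ) : Al Y :=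
  al_of le_rfl (by norm_num) φ i (S5 (ns_eq (MonoidHom.ofInjective i) hn))

theorem al6 (hn : ¬ Group.IsSolvable Y) (φ : Y →* Perm (Fin 6)) (i : Function.Injective φ) : Al Y := by
  by_cases h : alternatingGroup (Fin 6) ≤ φ.range
  · exact al_of (by norm_num) (by norm_num) φ i h
  have e0 := MonoidHom.ofInjective i
  have hn' := ns_eq e0 hn
  generalize φ.range = J at *
  have e := J.card_mul_index
  rw [Nat.card_perm, Nat.card_fin] at e
  obtain ⟨k, hk⟩ := dv12 (a := 4) (b := 2) Nat.prime_five (by norm_num) (by norm_num) hn' (Dvd.intro _ e)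
  obtain ⟨c, d⟩ := core_bot (by norm_num) h
  have e2 : J.index ∣ 12 := ⟨k, by rw [hk] at e; simp [Nat.factorial] at e; nlinarith⟩
  have e3 := Nat.le_of_dvd (by norm_num) e2
  have : J.index = 6 ∨ J.index = 12 := by
    interval_cases J.index <;> simp [Nat.factorial] at d e2 ⊢
  rcases this with r | r
  · obtain ⟨ψ, j⟩ := coset_emb J c r
    exact al5 hn (ψ.comp e0.toMonoidHom) (j.comp e0.injective)
  · have cJ : Nat.card J = 60 := by rw [r] at e; simp [Nat.factorial] at e; omega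
    have l : J ≤ alternatingGroup (Fin 6) := by
      have := (Group.isSolvable_iff_subgroup_quotient (Perm.sign.comp J.subtype).ker).not.1 hn'
      have s : Group.IsSolvable (J ⧸ (Perm.sign.comp J.subtype).ker) :=
        Group.isSolvable_of_isSolvable_injective (QuotientGroup.kerLift_injective _)
      have := dv12 (a := 2) (b := 1) Nat.prime_five (by norm_num) (by norm_num) (fun r => this ⟨r, s⟩)
        ((card_subgroup_dvd_card _).trans cJ.dvd)
      exact fun x hx => (eq_top_of_le_card _ (cJ.le.trans (Nat.le_of_dvd Nat.card_pos this))).ge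
        (mem_top (⟨x, hx⟩ : J))
    have := alternatingGroup.isSimpleGroup (α := Fin 6) (by simp)
    have e1 := (J.subgroupOf (alternatingGroup (Fin 6))).card_mul_index
    rw [Nat.card_congr (subgroupOfEquivOfLe l).toEquiv, cJ, nat_card_alternatingGroup, Nat.card_fin] at e1
    obtain ⟨ψ, j⟩ := coset_emb (J.subgroupOf (alternatingGroup (Fin 6))) (m := 5)
      ((normalCore_normal _).eq_bot_or_eq_top.resolve_right fun r => h fun x hx =>
        normalCore_le (J.subgroupOf _) (r.ge (mem_top (⟨x, hx⟩ : alternatingGroup (Fin 6)))))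
      (by simp [Nat.factorial] at e1; omega)
    exact al5 hn (ψ.comp (e0.trans (subgroupOfEquivOfLe l).symm).toMonoidHom)
      (j.comp (MulEquiv.injective _))

theorem cyc {n p : ℕ} (hp : p.Prime) (hn : n < 2 * p) {J : Subgroup (Perm (Fin n))} (h : p ∣ Nat.card J) :
    ∃ f ∈ J, f.IsCycle ∧ f.support.card = p := by
  have := Fact.mk hp
  obtain ⟨f, hf⟩ := exists_prime_orderOf_dvd_card' p h
  rw [← orderOf_coe] at hf
  have c := Perm.isCycle_of_prime_order' (hf ▸ hp) (by rwa [hf, Fintype.card_fin])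
  exact ⟨f, f.2, c, c.orderOf ▸ hf⟩

theorem D7 {J : Subgroup (Perm (Fin 7))} (h5 : 5 ∣ Nat.card J) (h7 : 7 ∣ Nat.card J) :
    alternatingGroup (Fin 7) ≤ J := by
  obtain ⟨c, hc, c1, c2⟩ := cyc (by norm_num) (by norm_num) h7
  obtain ⟨f, hf, f1, f2⟩ := cyc (by norm_num) (by norm_num) h5
  obtain ⟨u, hu⟩ := isConj_iff.1 (c1.isConj (isCycle_finRotate (n := 5)) (by simp [c2]))
  have e : Y7.enc (finRotate 7) = 219345 := by decide
  obtain ⟨i, -, j, -, r⟩ := Y7.all7P _ chk7 (u * f * u⁻¹) (by rw [← Y7.mv_enc, Y7.mv_conj]; exact f2)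
    (by rw [← Y7.enc_pow, conj_pow, ← f2, ← f1.orderOf, pow_orderOf_eq_one]; simpa using Y7.e1)
  simp only [← e, ← Y7.enc_pow, ← Y7.enc_mul, ← Y7.mv_enc, ← hu, conj_pow, conj_mul, Y7.mv_conj] at r
  have : IsPretransitive J (Fin 7) := ⟨fun x y => by
    have s : c.support = Finset.univ := Finset.eq_univ_of_card _ (by simp [c2])
    obtain ⟨k, hk⟩ := c1.exists_pow_eq (Perm.mem_support.1 (s ▸ Finset.mem_univ x))
      (Perm.mem_support.1 (s ▸ Finset.mem_univ y))
    exact ⟨⟨_, pow_mem hc k⟩, hk⟩⟩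
  exact Perm.alternatingGroup_le_of_isPreprimitive_of_isThreeCycle_mem
    (IsPreprimitive.of_prime_card (by simp; norm_num)) (card_support_eq_three_iff.1 r)
    (pow_mem (mul_mem (mul_mem (pow_mem hc i) hf) (mul_mem (pow_mem hc j) hf)) 2)

theorem orb8 {J : Subgroup (Perm (Fin 8))} (h5 : 5 ∣ Nat.card J) : ∃ S : Set (Fin 8),
    (∀ g ∈ J, ∀ x ∈ S, g x ∈ S) ∧ (S.ncard = 5 ∨ S.ncard = 6 ∨ (S.ncard = 7 ∧ 7 ∣ Nat.card J) ∨
      ∃ a : Fin 8, (stabilizer J a).index = 8 ∧ 7 ∣ Nat.card J) := by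
  obtain ⟨f, hf, f1, f2⟩ := cyc (by norm_num) (by norm_num) h5
  obtain ⟨x, hx⟩ := Finset.card_pos.1 (f2 ▸ by norm_num : 0 < f.support.card)
  refine ⟨orbit J x, fun g hg y ⟨k, e⟩ => ⟨⟨g, hg⟩ * k, by simp only [mul_smul]; exact congrArg g e⟩, ?_⟩
  have e1 : 5 ≤ (orbit J x).ncard := by
    rw [← f2, ← Set.ncard_coe_finset]
    refine Set.ncard_le_ncard fun y hy => ?_
    obtain ⟨k, hk⟩ := f1.exists_pow_eq (Perm.mem_support.1 hx) (Perm.mem_support.1 hy)
    exact ⟨⟨_, pow_mem hf k⟩, hk⟩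
  have e2 : (orbit J x).ncard ≤ 8 := by simpa using Set.ncard_le_card (orbit J x)
  have e3 := index_stabilizer J x
  by_cases r : (orbit J x).ncard = 8
  · refine Or.inr (Or.inr (Or.inr ⟨x, e3.trans r, ?_⟩))
    have : IsPretransitive J (Fin 8) := (isPretransitive_iff_orbit_eq_univ x).2
      (Set.eq_univ_iff_ncard _ |>.2 (by simpa))
    have t := Perm.isPretransitive_of_isCycle_mem f1 hf
    have c : Nat.card (SubMulAction.ofFixingSubgroup J (f.support : Set (Fin 8))ᶜ) = 5 := by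
      classical
      rw [Nat.card_eq_fintype_card, Fintype.card_subtype, ← f2]
      apply congr_arg
      ext x
      simp [SubMulAction.mem_ofFixingSubgroup_iff]
    have := IsPreprimitive.of_prime_card (hGX := t) (c ▸ Nat.prime_five)
    have p : IsPreprimitive J (Fin 8) := IsPreprimitive.of_card_lt
      (f := SubMulAction.ofFixingSubgroup_equivariantMap J (f.support : Set (Fin 8))ᶜ) (by
        rw [Set.ncard_range_of_injective SubMulAction.ofFixingSubgroup_equivariantMap_injective, c]; simp)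
    have := (p.is_two_pretransitive (n := 2) (by
      have := Set.ncard_add_ncard_compl (f.support : Set (Fin 8))
      rw [Set.ncard_coe_finset, f2, Nat.card_fin] at this; omega) (by simp) t).index_of_fixingSubgroup_mul
      (s := {0, 1}) (Set.ncard_pair (by decide))
    simp [Nat.factorial] at this
    exact Dvd.dvd.trans (by omega) (index_dvd_card (fixingSubgroup J ({0, 1} : Set (Fin 8))))
  · have : (orbit J x).ncard = 7 → 7 ∣ Nat.card J := fun e => e ▸ e3 ▸ index_dvd_card _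
    omega

end R4
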