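import Cfsg.Agent.MW.F
import Cfsg.Agent.H8.GL42

/-! Tools for 2-constrained groups of sectional 2-rank at most four. -/

set_option autoImplicit false
set_option linter.unusedVariables false
set_option linter.unusedSectionVars false

namespace R4

open Cfsg Subgroup FT H4 H5 GW L M4 MW

variable {G : Type*} [Group G] [Finite G] {Q W N M H K : Subgroup G} {f t d x y g : G}

/-- sections of exponent two have order at most sixteen -/
def SR (G : Type*) [Group G] : Prop :=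
  ∀ N H : Subgroup G, N ≤ H → H ≤ Nor N → (∀ x ∈ H, x * x ∈ N) → Nat.card H ≤ 16 * Nat.card N

theorem sr_of (h : SectionalPRankLE 2 4 G) : SR G := fun N H h1 h2 h3 => by
  have := (normal_subgroupOf_iff_le_normalizer h1).2 h2
  have e := H8.card_le_of_sectional h H _ (QuotientGroup.mk'_surjective (N.subgroupOf H)) fun y => by
    obtain ⟨x, rfl⟩ := QuotientGroup.mk'_surjective _ y
    rw [← map_pow, sq]; exact (QuotientGroup.eq_one_iff _).2 (h3 x x.2)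
  rw [card_eq_card_quotient_mul_card_subgroup (N.subgroupOf H),
    Nat.card_congr (subgroupOfEquivOfLe h1).toEquiv]
  exact Nat.mul_le_mul_right _ e

theorem SR.sub (h : SR G) (Y : Subgroup G) : SR Y := fun N H h1 h2 h3 => by
  have := h (N.map Y.subtype) (H.map Y.subtype) (map_mono h1) (by
    rintro _ ⟨x, hx, rfl⟩
    refine mnor ?_
    rintro _ ⟨y, hy, rfl⟩
    exact ⟨_, cmem (h2 hx) hy, rfl⟩) (by
    rintro _ ⟨x, hx, rfl⟩; exact ⟨_, h3 x hx, rfl⟩)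
  rwa [card_map_of_injective Y.subtype_injective, card_map_of_injective Y.subtype_injective] at this

theorem card_comap {X : Type*} [Group X] {φ : G →* X} (s : Function.Surjective φ) (A : Subgroup X) :
    Nat.card (A.comap φ) = Nat.card A * Nat.card φ.ker := by
  rw [card_eq_card_map_mul φ, map_comap_eq_self_of_surjective s, inf_of_le_right (ker_le_comap φ A)]

theorem SR.quot {X : Type*} [Group X] [Finite X] (h : SR G) {φ : G →* X} (s : Function.Surjective φ) :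
    SR X := fun N H h1 h2 h3 => by
  have := h (N.comap φ) (H.comap φ) (comap_mono h1) (fun x hx => mnor fun y hy => by
    rw [mem_comap, map_mul, map_mul, map_inv]; exact cmem (h2 hx) hy) fun x hx => by
    rw [mem_comap, map_mul]; exact h3 _ hx
  rw [card_comap s, card_comap s, ← mul_assoc] at this
  exact Nat.le_of_mul_le_mul_right this Nat.card_pos

/-- the subgroup generated by the squares -/
def Ph (Q : Subgroup G) : Subgroup G := closure {y | ∃ x ∈ Q, y = x * x}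

theorem sqP (hx : x ∈ Q) : x * x ∈ Ph Q := subset_closure ⟨x, hx, rfl⟩

theorem Ph_le (h : ∀ x ∈ Q, x * x ∈ N) : Ph Q ≤ N := (closure_le _).2 fun _ ⟨x, hx, e⟩ => e ▸ h x hx

theorem PhQ : Ph Q ≤ Q := Ph_le fun x hx => mul_mem hx hx

theorem cmP (hx : x ∈ Q) (hy : y ∈ Q) : x * y * x⁻¹ * y⁻¹ ∈ Ph Q :=
  mem_of_eq (mul_mem (mul_mem (sqP (mul_mem hx hy)) (sqP (mul_mem (mul_mem (inv_mem hy) (inv_mem hx)) hy)))
    (sqP (inv_mem hy))) (by group)

theorem Ph_nor (h : g ∈ Nor Q) : g ∈ Nor (Ph Q) := mnor fun x hx =>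
  Ph_le (N := (Ph Q).comap (MulAut.conj g).toMonoidHom)
    (fun y hy => show g * (y * y) * g⁻¹ ∈ Ph Q from mem_of_eq (sqP (cmem h hy)) (by group)) hx

theorem nor_of [Q.Normal] (g : G) : g ∈ Nor Q := mnor fun x hx => ‹Q.Normal›.conj_mem x hx g

theorem normal_of (h : ∀ g, g ∈ Nor Q) : Q.Normal := ⟨fun x hx g => cmem (h g) hx⟩

instance [Q.Normal] : (Ph Q).Normal := normal_of fun g => Ph_nor (nor_of g)

theorem Ph_map {X : Type*} [Group X] [Finite X] (φ : G →* X) : Ph (Q.map φ) = (Ph Q).map φ :=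
  le_antisymm (Ph_le (by rintro _ ⟨x, hx, rfl⟩; exact ⟨_, sqP hx, map_mul ..⟩))
    (map_le_iff_le_comap.2 (Ph_le fun x hx => by
      rw [mem_comap, map_mul]; exact sqP (mem_map_of_mem φ hx)))

theorem mem_mapq [W.Normal] (h : W ≤ N) : QuotientGroup.mk' W x ∈ N.map (QuotientGroup.mk' W) ↔ x ∈ N := by
  rw [← mem_comap, comap_map_eq, QuotientGroup.ker_mk', sup_of_le_left h]

theorem card_mapq [W.Normal] (h : W ≤ N) :
    Nat.card N = Nat.card (N.map (QuotientGroup.mk' W)) * Nat.card W := by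
  rw [card_eq_card_map_mul (QuotientGroup.mk' W), QuotientGroup.ker_mk', inf_of_le_right h]

theorem SR.Ph (h : SR G) : Nat.card Q ≤ 16 * Nat.card (Ph Q) :=
  h _ _ PhQ (fun x hx => Ph_nor (le_normalizer hx)) fun x => sqP

theorem pw (hM : IsPGroup 2 M) (h : N ≤ M) : ∃ j, Nat.card M = 2 ^ j * Nat.card N := by
  obtain ⟨k, hk⟩ := hM.exists_card_eq
  obtain ⟨c, hc⟩ := card_dvd_of_le h
  obtain ⟨j, -, rfl⟩ := (Nat.dvd_prime_pow Nat.prime_two).1 (hk ▸ hc ▸ Dvd.intro_left _ rfl : c ∣ 2 ^ k)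
  exact ⟨j, by rw [hc, mul_comm]⟩

theorem mod_cen {p : ℕ} [Fact p.Prime] (hg : g ^ p = 1) (n : g ∈ Nor M) :
    Nat.card M ≡ Nat.card ↥(M ⊓ Cen1 g) [MOD p] :=
  SF.modEq_cen_elt (k := 1) (S := M) (by rwa [pow_one]) fun z => cmem n

theorem idx_mod {p j : ℕ} [Fact p.Prime] (hp : p ≠ 2) (hg : g ^ p = 1) (hM : IsPGroup 2 M) (h : N ≤ M)
    (n : g ∈ Nor M) (n' : g ∈ Nor N) (c : M ⊓ Cen1 g ≤ N) (e : Nat.card M = 2 ^ j * Nat.card N) :
    2 ^ j % p = 1 % p := by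
  have e1 := mod_cen hg n
  rw [show M ⊓ Cen1 g = N ⊓ Cen1 g from le_antisymm (le_inf c inf_le_right) (inf_le_inf_right _ h), e] at e1
  obtain ⟨k, hk⟩ := (hM.to_le h).exists_card_eq
  refine Nat.ModEq.cancel_right_of_coprime (c := Nat.card N) ?_
    (by rw [one_mul]; exact e1.trans (mod_cen hg n').symm)
  rw [hk]
  exact Nat.Coprime.pow_right _ ((Nat.coprime_primes Fact.out Nat.prime_two).2 hp)

/-- the elements of `M` fixed by `g` modulo `N` -/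
def Fx (M N : Subgroup G) (h : M ≤ Nor N) (g : G) : Subgroup G where
  carrier := {x | x ∈ M ∧ x⁻¹ * (g * x * g⁻¹) ∈ N}
  one_mem' := ⟨one_mem _, by simp⟩
  mul_mem' := fun {x y} ⟨x1, x2⟩ ⟨y1, y2⟩ => ⟨mul_mem x1 y1,
    mem_of_eq (mul_mem (cmem' (h y1) x2) y2) (by group)⟩
  inv_mem' := fun {x} ⟨x1, x2⟩ => ⟨inv_mem x1, mem_of_eq (cmem (h x1) (inv_mem x2)) (by group)⟩

theorem mem_Fx {h : M ≤ Nor N} : x ∈ Fx M N h g ↔ x ∈ M ∧ x⁻¹ * (g * x * g⁻¹) ∈ N := Iff.rfl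

theorem Fx_le {h : M ≤ Nor N} : Fx M N h g ≤ M := fun _ h => h.1

theorem le_Fx (h : M ≤ Nor N) (l : N ≤ M) (n : g ∈ Nor N) : N ≤ Fx M N h g :=
  fun x hx => ⟨l hx, mul_mem (inv_mem hx) (cmem n hx)⟩

theorem Fx_nor (h : M ≤ Nor N) (l : N ≤ M) (n : g ∈ Nor N) : g ∈ Nor (Fx M N h g) := mnor fun x hx =>
  mem_of_eq (mul_mem hx (le_Fx h l n hx.2)) (by group)

theorem cen_Fx (h : M ≤ Nor N) : M ⊓ Cen1 g ≤ Fx M N h g := fun x hx =>
  ⟨hx.1, by rw [c1'.1 (c1s.1 hx.2), inv_mul_cancel]; exact one_mem _⟩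

theorem idx_Fx {p : ℕ} [Fact p.Prime] (hp : p ≠ 2) (hg : g ^ p = 1) (hM : IsPGroup 2 M) (l : N ≤ M)
    (h : M ≤ Nor N) (n : g ∈ Nor M) (n' : g ∈ Nor N) (c : Nat.card M ≤ 16 * Nat.card N)
    (hx : x ∈ M) (e : x⁻¹ * (g * x * g⁻¹) ∉ N) : ∃ i j, 1 ≤ j ∧ i + j ≤ 4 ∧ 2 ^ j % p = 1 % p ∧
      Nat.card M = 2 ^ j * Nat.card (Fx M N h g) ∧ Nat.card (Fx M N h g) = 2 ^ i * Nat.card N := by
  obtain ⟨j, hj⟩ := pw hM (Fx_le (h := h) (g := g))
  obtain ⟨i, hi⟩ := pw (hM.to_le Fx_le) (le_Fx h l n')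
  refine ⟨i, j, Nat.pos_of_ne_zero ?_, ?_, idx_mod hp hg hM Fx_le n (Fx_nor h l n') (cen_Fx h) hj, hj, hi⟩
  · rintro rfl
    exact e ((SF.eq_of_le_card (Fx_le (h := h)) (by rw [hj]; simp)).ge hx).2
  · rw [hj, hi, ← mul_assoc, ← pow_add, add_comm] at c
    exact (Nat.pow_le_pow_iff_right (a := 2) (m := 4) (by norm_num)).1 (Nat.le_of_mul_le_mul_right c Nat.card_pos)

theorem five (hg : g ^ 5 = 1) (hM : IsPGroup 2 M) (l : N ≤ M)
    (h : M ≤ Nor N) (n : g ∈ Nor M) (n' : g ∈ Nor N) (c : Nat.card M ≤ 16 * Nat.card N)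
    (hx : x ∈ M) (e : x⁻¹ * (g * x * g⁻¹) ∉ N) : Nat.card M = 16 * Nat.card N ∧ M ⊓ Cen1 g ≤ N := by
  have : Fact (Nat.Prime 5) := ⟨by norm_num⟩
  obtain ⟨i, j, h1, h2, h3, h4, h5⟩ := idx_Fx (by norm_num) hg hM l h n n' c hx e
  obtain rfl : j = 4 := by
    have : j ≤ 4 := by omega
    interval_cases j <;> simp at h3 ⊢
  obtain rfl : i = 0 := by omega
  exact ⟨by rw [h4, h5]; simp, (cen_Fx h).trans (SF.eq_of_le_card (le_Fx h l n') (by rw [h5]; simp)).ge⟩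

theorem ex_min (hQ : IsPGroup 2 Q) [Q.Normal] [N.Normal] (l : N ≤ Q) (h : N ≠ ⊥) :
    ∃ W ≤ N, W.Normal ∧ W ≠ ⊥ ∧ W ≤ Cen Q ∧ (∀ w ∈ W, w * w = 1) ∧
      ∀ K ≤ W, K.Normal → K ≠ ⊥ → W ≤ K := by
  obtain ⟨W, ⟨h1, h2, h3⟩, m⟩ := WellFoundedLT.exists_minimal inferInstance
    (fun W : Subgroup G => W ≤ N ∧ W.Normal ∧ W ≠ ⊥) ⟨N, le_rfl, inferInstance, h⟩
  have m' : ∀ K ≤ W, K.Normal → K ≠ ⊥ → W ≤ K := fun K a b c => m ⟨a.trans h1, b, c⟩ a
  have n0 : Q ≤ Nor (⊥ : Subgroup G) := fun g _ => nor_of g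
  obtain ⟨x, hx, x1, hY⟩ := ex_Ym hQ n0 (h1.trans l) (fun g _ => nor_of g) (mt le_bot_iff.1 h3)
  have : (Ym Q ⊥ n0).Normal := normal_of fun g => Ym_nor n0 (nor_of g) (nor_of g)
  have e := m' _ inf_le_left inferInstance fun e : W ⊓ Ym Q ⊥ n0 = ⊥ => x1 (e.le ⟨hx, hY⟩)
  exact ⟨W, h1, h2, h3, fun w hw => cen.2 fun q hq => by
    simpa [mul_inv_eq_iff_eq_mul] using (e hw).2.2.2 q hq, fun w hw => (e hw).2.2.1, m'⟩

theorem dvd_ncard {S : Set G} (h : ∀ x ∈ S, ∀ l ∈ N, l * x ∈ S) : Nat.card N ∣ S.ncard :=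
  SF.card_dvd_of_semireg (X := N) (fun g hg z hz => h z hz g hg) fun g _ z _ e => by simpa using e

end R4
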