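import Cfsg.Agent.R4.A

/-! The case of a section `A₅`. -/

set_option autoImplicit false
set_option linter.unusedVariables false
set_option linter.unusedSectionVars false

namespace R4

open Cfsg Subgroup FT H4 H5 GW L M4 MW

universe u
variable {G : Type u} [Group G] [Finite G] {Q W N M H K : Subgroup G} {f t d x y g : G}

theorem sqFx [Q.Normal] [N.Normal] (l : N ≤ Q) (h : ∀ x ∈ Q, x * x ∈ N) (h2 : t * t ∈ Q) (n : Q ≤ Nor N) :
    Nat.card Q * Nat.card N ≤ Nat.card (Fx Q N n t) ^ 2 := by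
  set π := QuotientGroup.mk' N
  have o : ∀ x, π x = 1 ↔ x ∈ N := fun x => QuotientGroup.eq_one_iff x
  have el : ∀ a ∈ Q.map π, a * a = 1 := by
    rintro _ ⟨a, ha, rfl⟩; rw [← map_mul, o]; exact h a ha
  have : (Q.map π).Normal := Normal.map inferInstance _ (QuotientGroup.mk'_surjective _)
  have e := SF.card_le_sq el (nor_of (π t)) fun a ha => el_comm el ⟨_, h2, map_mul ..⟩ ha
  have e2 : Q.map π ⊓ Cen1 (π t) ≤ (Fx Q N n t).map π := by
    rintro _ ⟨⟨a, ha, rfl⟩, c⟩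
    exact ⟨a, ⟨ha, (o _).1 (by simp only [map_mul, map_inv]; rw [c1'.1 (c1s.1 c), inv_mul_cancel])⟩, rfl⟩
  rw [card_mapq l, card_mapq (le_Fx n l (nor_of t)), mul_pow, mul_assoc, ← sq]
  exact Nat.mul_le_mul_right _ (e.trans (Nat.pow_le_pow_left (card_le_of_le e2) 2))

theorem three {α : Type*} {S : Set G} (φ : G → α) {a b c : α} (ab : a ≠ b) (ac : a ≠ c) (bc : b ≠ c) :
    {x ∈ S | φ x = a}.ncard + {x ∈ S | φ x = b}.ncard + {x ∈ S | φ x = c}.ncard ≤ S.ncard := by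
  rw [← Set.ncard_union_eq (Set.disjoint_left.2 fun x h1 h2 => ab (h1.2.symm.trans h2.2)),
    ← Set.ncard_union_eq (Set.disjoint_left.2 fun x h1 h2 =>
      h1.elim (fun h => ac (h.2.symm.trans h2.2)) fun h => bc (h.2.symm.trans h2.2))]
  exact Set.ncard_le_ncard fun x h => h.elim (fun h => h.elim And.left And.left) And.left

theorem ncard_out (l : N ≤ M) : {x | x ∈ M ∧ x ∉ N}.ncard + Nat.card N = Nat.card M :=
  Set.ncard_sdiff_add_ncard_of_subset (s := (N : Set G)) (t := (M : Set G)) l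

theorem comm4 (c : Nat.card N = 4) : N ≤ Cen N := fun x hx => cen.2 fun y hy =>
  congrArg Subtype.val ((IsPGroup.isMulCommutative_of_card_eq_prime_sq (p := 2) (G := N) c).is_comm.comm
    ⟨x, hx⟩ ⟨y, hy⟩)

theorem pow_card (hx : x ∈ N) : x ^ Nat.card N = 1 :=
  congrArg Subtype.val (pow_card_eq_one' (x := (⟨x, hx⟩ : N)))

theorem two_le (hx : x ∈ N) (x1 : x ≠ 1) : 2 ≤ Nat.card N :=
  (one_lt_card_iff_ne_bot N).2 fun e => x1 (e.le hx)

theorem sq_idx (l : N ≤ M) (c : Nat.card M ≤ 2 * Nat.card N) (hx : x ∈ M) : x * x ∈ N := by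
  by_cases e : x ∈ N
  exacts [mul_mem e e, TW.idx2 l c x hx x hx e e]

structure F0 (Q : Subgroup G) (f : G) : Prop where
  sr : SR G
  nQ : Q.Normal
  pQ : IsPGroup 2 Q
  f5 : f ^ 5 = 1
  fn : ∃ q ∈ Q, q⁻¹ * (f * q * f⁻¹) ∉ Ph Q

structure F5 (Q : Subgroup G) (f t d : G) : Prop extends F0 Q f where
  sm : ∀ K : Subgroup G, K.Normal → Q ≤ K → f ∈ K → K = ⊤
  tf : t * f * t⁻¹ = f⁻¹
  t2 : t * t ∈ Q
  d3 : d ^ 3 = 1
  dn : ∃ q ∈ Q, q⁻¹ * (d * q * d⁻¹) ∉ Ph Q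

namespace F0
variable (h : F0 Q f)
include h

theorem V : Nat.card Q = 16 * Nat.card (Ph Q) ∧ Q ⊓ Cen1 f ≤ Ph Q :=
  have := h.nQ
  let ⟨q, hq, e⟩ := h.fn
  five h.f5 h.pQ PhQ (fun g _ => nor_of g) (nor_of f) (nor_of f) h.sr.Ph hq e

theorem irr (l : Ph Q ≤ M) (l' : M ≤ Q) (n : f ∈ Nor M) : M ≤ Ph Q ∨ Q ≤ M := by
  have := h.nQ
  have : Fact (Nat.Prime 5) := ⟨by norm_num⟩
  obtain ⟨j, hj⟩ := pw (h.pQ.to_le l') l
  have e := idx_mod (by norm_num) h.f5 (h.pQ.to_le l') l n (nor_of f)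
    ((inf_le_inf_right _ l').trans h.V.2) hj
  have c := card_le_of_le l'
  rw [h.V.1, hj] at c
  have : j ≤ 4 := (Nat.pow_le_pow_iff_right (a := 2) (m := 4) (by norm_num)).1
    (Nat.le_of_mul_le_mul_right c Nat.card_pos)
  interval_cases j <;> simp at e hj
  exacts [Or.inl (SF.eq_of_le_card l hj.le).ge, Or.inr (SF.eq_of_le_card l' (by rw [hj, h.V.1])).ge]

theorem ab (l : N ≤ Ph Q) (n : f ∈ Nor N) (nQ : Q ≤ Nor N) (c : Nat.card (Ph Q) ≤ 2 * Nat.card N)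
    (e : ∀ x ∈ Q, ∀ y ∈ Q, x * y * x⁻¹ * y⁻¹ ∈ N) : Ph Q ≤ N := by
  have := h.nQ
  rcases h.irr (M := Ym Q N nQ) (fun x hx => ⟨PhQ hx, sq_idx l c hx, e x (PhQ hx)⟩) (fun x hx => hx.1)
    (Ym_nor nQ (nor_of f) n) with r | r
  · have := TW.idx2' (M := Ym Q N nQ) (S := Q) (fun x hx => hx.1) fun x hx y hy a b =>
      ⟨mul_mem hx hy, mem_of_eq (mul_mem (cmem (nQ hx) (e y hy x hx)) (TW.idx2 l c _ (sqP hx) _ (sqP hy)
        (fun r => a ⟨hx, r, e x hx⟩) fun r => b ⟨hy, r, e y hy⟩)) (by group), e _ (mul_mem hx hy)⟩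
    have := card_le_of_le r
    have := h.V.1
    have : 0 < Nat.card (Ph Q) := Nat.card_pos
    omega
  · exact Ph_le fun x hx => (r hx).2.1

theorem c32 (l : W ≤ Ph Q) (c : Nat.card W = 16) (c' : Nat.card (Ph Q) = 32) (el : ∀ w ∈ W, w * w = 1)
    (wc : W ≤ Cen Q) (fp : W ⊓ Cen1 f ≤ ⊥) : False := by
  have := h.nQ
  have : Fact (Nat.Prime 5) := ⟨by norm_num⟩
  have e := mod_cen (M := Ph Q) h.f5 (nor_of f)
  obtain ⟨x, ⟨x1, x2⟩, x3⟩ := SF.exists_not_mem (N := ⊥) (U := Ph Q ⊓ Cen1 f) (by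
    rw [card_bot, c'] at *
    exact lt_of_le_of_ne Nat.card_pos fun r => by rw [← r] at e; simp [Nat.ModEq] at e)
  have e2 : x * x = 1 := fp ⟨sq_idx l (by omega) x1, mul_mem x2 x2⟩
  have xc := le_cen_symm wc (PhQ x1)
  have := h.sr ⊥ (W ⊔ zpowers x) bot_le (fun g _ => nor_of g) (el_sup el e2 xc)
  rw [SF.card_sup_zp (mcnor xc) (e2 ▸ one_mem _) fun r => x3 (fp ⟨r, x2⟩), card_bot] at this
  omega

theorem es (c : Nat.card (Ph Q) = 2) : ∃ z, H7.ES Q z ∧ f * z = z * f := by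
  have := h.nQ
  obtain ⟨z, hz, z1⟩ := SF.exists_not_mem (N := ⊥) (U := Ph Q) (by rw [card_bot, c]; omega)
  have m : ∀ x ∈ Ph Q, x = 1 ∨ x = z := fun x hx => by
    simpa [eq_comm (a := z), inv_mul_eq_one] using cov (H := ⊥) bot_le [1, z] (by simp [hz])
      (by simpa using z1) (by simp [c]) hx
  have zc : ∀ g, g * z = z * g := fun g => mul_inv_eq_iff_eq_mul.1
    ((m _ (cmem (nor_of g) hz)).resolve_left fun e => z1 (by simpa using e))
  have ce : ∀ x ∈ Q, (∀ q ∈ Q, q * x = x * q) → x = 1 ∨ x = z := fun x hx e => by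
    rcases h.irr (M := Q ⊓ Cen Q) (fun y hy => ⟨PhQ hy, cen.2 fun q hq => by
      rcases m y hy with rfl | rfl <;> simp [zc]⟩) inf_le_left (nor_of f) with r | r
    · exact m _ (r ⟨hx, cen.2 fun q hq => (e q hq).symm⟩)
    · exact (z1 (h.ab bot_le (nor_of f) (fun g _ => nor_of g) (by simp [c])
        (fun x hx y hy => by rw [cen.1 (r hx).2 y hy]; simp) hz)).elim
  exact ⟨z, ⟨⟨z1, by simpa [c, sq] using pow_card hz, PhQ hz, fun q _ => zc q, fun q hq => m _ (sqP hq),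
    fun x hx e _ => ce x hx e⟩, ce⟩, zc f⟩

end F0

namespace F5
variable (h : F5 Q f t d)
include h

theorem quot [W.Normal] (l : W ≤ Ph Q) : F5 (Q.map (QuotientGroup.mk' W)) (QuotientGroup.mk' W f)
    (QuotientGroup.mk' W t) (QuotientGroup.mk' W d) := by
  have s := QuotientGroup.mk'_surjective W
  have k : ∀ g, (∃ q ∈ Q, q⁻¹ * (g * q * g⁻¹) ∉ Ph Q) → ∃ q ∈ Q.map (QuotientGroup.mk' W),
      q⁻¹ * (QuotientGroup.mk' W g * q * (QuotientGroup.mk' W g)⁻¹) ∉ Ph (Q.map (QuotientGroup.mk' W)) :=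
    fun g ⟨q, hq, e⟩ => ⟨_, mem_map_of_mem _ hq, fun r => e (by
      rw [Ph_map] at r; exact (mem_mapq l).1 (by simpa only [map_mul, map_inv] using r))⟩
  exact ⟨⟨h.sr.quot s, h.nQ.map _ s, h.pQ.map _, by rw [← map_pow, h.f5, map_one], k f h.fn⟩,
    fun K a b c => comap_injective s (h.sm _ (a.comap _) (map_le_iff_le_comap.1 b) c),
    by simp only [← map_mul, ← map_inv, h.tf], ⟨_, h.t2, map_mul ..⟩, by rw [← map_pow, h.d3, map_one],
    k d h.dn⟩

theorem c16 (c : Nat.card (Ph Q) = 16) (el : ∀ w ∈ Ph Q, w * w = 1) (wc : Ph Q ≤ Cen Q)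
    (fp : Ph Q ⊓ Cen1 f ≤ ⊥) : False := by
  have := h.nQ
  have tf := h.tf
  have t2 : t * t = 1 := by
    have : t * t ∈ Cen1 f := c1'.2 (by
      calc _ = t * (t * f * t⁻¹) * t⁻¹ := by group
        _ = t * f⁻¹ * t⁻¹ := by rw [tf]
        _ = (t * f * t⁻¹)⁻¹ := by group
        _ = f := by rw [tf, inv_inv])
    exact fp ⟨h.V.2 ⟨h.t2, this⟩, this⟩
  have f2 : ∀ K : Subgroup G, f * f ∈ K → f ∈ K := fun K e => mem_of_eq (pow_mem e 3) (by
    rw [← sq, ← pow_mul, pow_succ, h.f5, one_mul])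
  have tQ : t ∉ Q := fun e => by
    obtain ⟨q, hq, r⟩ := h.fn
    have : f ∈ Q := f2 Q (mem_of_eq (mul_mem (cmem (nor_of f) e) (inv_mem e)) (by
      calc _ = f * (t * f * t⁻¹)⁻¹ := by group
        _ = _ := by rw [tf, inv_inv]))
    exact r (mem_of_eq (cmP (inv_mem hq) this) (by group))
  set C := Ph Q ⊓ Cen1 t
  have cC : Nat.card C ≤ 4 := by
    have e := H6.card_mul_card_le C (conjS f C)
    have e1 : C ⊓ conjS f C ≤ ⊥ := fun x ⟨a, b⟩ => fp ⟨a.1, c1s.1 (f2 _ (mem_of_eq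
      (mul_mem (c1s.1 (mem_of_eq (kc (mem_conjS.1 b).2 f) (by group : _ = x))) (inv_mem (c1s.1 a.2))) (by
        calc _ = f * (t * f * t⁻¹)⁻¹ := by group
          _ = _ := by rw [tf, inv_inv])))⟩
    have e2 : C ⊔ conjS f C ≤ Ph Q := sup_le inf_le_left fun x hx =>
      mem_of_eq (cmem (nor_of f) (mem_conjS.1 hx).1) (by group)
    have := card_le_of_le e2
    rw [card_conjS, le_bot_iff.1 e1, card_bot] at e
    nlinarith
  have n : Q ≤ Nor (Ph Q) := fun g _ => nor_of g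
  have cB := sqFx PhQ (fun x => sqP) h.t2 n
  set B := Fx Q (Ph Q) n t
  have tB : t ∈ Nor B := Fx_nor n PhQ (nor_of t)
  have sq1 : ∀ b ∈ B, t * b * t⁻¹ * (t * b * t⁻¹) = b * b := fun b hb => by
    have e1 := el _ hb.2
    have e2 := cen.1 (wc hb.2) b hb.1
    generalize t * b * t⁻¹ = y at *
    calc _ = b * (b⁻¹ * y * b) * (b⁻¹ * y) := by group
      _ = b * b * (b⁻¹ * y * (b⁻¹ * y)) := by rw [e2]; group
      _ = _ := by rw [e1, mul_one]
  have := h.sr C (B ⊔ zpowers t) (inf_le_left.trans ((le_Fx n PhQ (nor_of t)).trans le_sup_left))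
    (sup_le (Fx_le.trans (cnor (le_cen_symm (inf_le_left.trans wc))))
      (zpowers_le.2 (mcnor (cen_iff_le.2 inf_le_right)))) fun y hy => by
      rcases (SF.mem_sup_zp tB (t2 ▸ one_mem _)).1 hy with r | r
      · exact ⟨sqP r.1, c1s.1 (c1'.2 (by rw [← conj_mul, sq1 y r]))⟩
      · have ti : t⁻¹ = t := inv_eq_of_mul_eq_one_right t2
        have m : y * y ∈ Ph Q := mem_of_eq (mul_mem (sqP r.1) r.2) (by
          calc _ = y * (t * t) * y * (t * t⁻¹) := by group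
            _ = _ := by rw [t2]; group)
        exact ⟨m, c1s.1 (mem_of_eq (mul_mem (inv_mem (c1.2 (by group) : y ∈ Cen1 (y * y)))
          (c1.2 (cen.1 (wc m) _ r.1).symm)) (by group))⟩
  rw [SF.card_sup_zp tB (t2 ▸ one_mem _) fun r => tQ r.1] at this
  rw [h.V.1, c] at cB
  nlinarith

theorem c4 (c : Nat.card (Ph Q) = 4) : False := by
  have := h.nQ
  have : Fact (Nat.Prime 5) := ⟨by norm_num⟩
  have : Fact (Nat.Prime 3) := ⟨by norm_num⟩
  have cQ := h.V.1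
  have fc : Ph Q ≤ Cen1 f := by
    have e := mod_cen (M := Ph Q) h.f5 (nor_of f)
    have := card_le_of_le (inf_le_left : Ph Q ⊓ Cen1 f ≤ _)
    exact (SF.eq_of_le_card inf_le_left (by rw [c, Nat.ModEq] at *; omega)).ge.trans inf_le_right
  have qc : Q ≤ Cen (Ph Q) := le_cen_symm fun x hx => cen_iff_le.2 (by
    rcases h.irr (M := Q ⊓ Cen1 x) (le_inf PhQ (cen_iff_le.1 (comm4 c hx))) inf_le_left
      (minf (nor_of f) (mc1 (c1s.1 (fc hx)))) with r | r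
    · have := idxW (K := Q) (W := Ph Q) (e := x) fun t ht => cmP ht (PhQ hx)
      have := card_le_of_le r
      rw [c] at *; omega
    · exact r.trans inf_le_right)
  have gc : ∀ x ∈ Ph Q, ∀ g, g * x = x * g := fun x hx g =>
    cen.1 ((h.sm _ inferInstance qc (cen_iff_le.2 fc)).ge (mem_top g)) x hx
  have el : ∀ x ∈ Ph Q, x * x = 1 := by
    by_contra! r
    obtain ⟨x, hx, r⟩ := r
    have o : ∀ y ∈ Ph Q, y * y = 1 → y ∈ Om (Ph Q) := fun y a b => mem_Om.2 ⟨a, b, comm4 c a⟩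
    have := two_le (o _ (mul_mem hx hx) (by rw [← pow_card hx, c]; simp [pow_succ, mul_assoc])) r
    exact r (h.ab Om_le (Om_nor (nor_of f)) (fun g _ => Om_nor (nor_of g)) (by omega) (fun a ha b hb =>
      o _ (cmP ha hb) (cm_sq rfl (gc _ (cmP ha hb) a).symm (gc _ (sqP ha) b).symm)) hx).2.1
  have k : ∀ x ∈ Q, x ∉ Ph Q → ∀ y ∈ Q, y ∉ Ph Q → ∀ z ∈ Q, z ∉ Ph Q →
      x * x ≠ y * y → x * x ≠ z * z → y * y ≠ z * z → False := fun x hx x1 y hy y1 z hz z1 a1 a2 a3 => by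
    set D := Q ⊓ Cen1 d
    have lD : Ph Q ≤ D := le_inf PhQ fun x hx => c1.2 (gc x hx d).symm
    have cD : Nat.card D ≤ 16 := by
      obtain ⟨q, hq, r⟩ := h.dn
      have e := mod_cen (M := Q) h.d3 (nor_of d)
      have e1 := _root_.TW.half (M := D) (S := Q) (lt_of_le_not_ge inf_le_left fun e => r (by
        rw [c1'.1 (c1s.1 (e hq).2), inv_mul_cancel]; exact one_mem _))
      obtain ⟨j, hj⟩ := pw (h.pQ.to_le inf_le_left) lD
      rw [hj, cQ, c] at e e1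
      rw [hj, c]
      have : j ≤ 3 := (Nat.pow_le_pow_iff_right (a := 2) (m := 3) (by norm_num)).1 (by omega)
      interval_cases j <;> simp [Nat.ModEq] at e ⊢
    have s1 := three (S := {x | x ∈ Q ∧ x ∉ Ph Q}) (fun x => x * x) a1 a2 a3
    have s2 := three (S := {x | x ∈ D ∧ x ∉ Ph Q}) (fun x => x * x) a1 a2 a3
    have s3 := ncard_out (PhQ (Q := Q))
    have s4 := ncard_out lD
    have p : ∀ x ∈ Q, x ∉ Ph Q → 20 ≤ {y ∈ {x | x ∈ Q ∧ x ∉ Ph Q} | y * y = x * x}.ncard ∧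
        ({y ∈ {x | x ∈ Q ∧ x ∉ Ph Q} | y * y = x * x}.ncard = 20 →
        8 ≤ {y ∈ {x | x ∈ D ∧ x ∉ Ph Q} | y * y = x * x}.ncard) :=
      fun x hx x1 => by
        have i : ∀ g, ∀ y ∈ {y ∈ {x | x ∈ Q ∧ x ∉ Ph Q} | y * y = x * x},
            g * y * g⁻¹ ∈ {y ∈ {x | x ∈ Q ∧ x ∉ Ph Q} | y * y = x * x} := fun g y ⟨⟨a, b⟩, e⟩ =>
          ⟨⟨cmem (nor_of g) a, fun r => b (mem_of_eq (cmem' (nor_of g) r) (by group))⟩, by
            rw [conj_mul, e, gc _ (sqP hx), mul_inv_cancel_right]⟩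
        have j : ∀ M, Ph Q ≤ M → Nat.card (Ph Q) ∣ {y ∈ {x | x ∈ M ∧ x ∉ Ph Q} | y * y = x * x}.ncard :=
          fun M l => dvd_ncard fun y ⟨⟨a, b⟩, e⟩ w hw =>
            ⟨⟨mul_mem (l hw) a, fun r => b ((mul_mem_cancel_left hw).1 r)⟩, by
              rw [← e, mul_assoc, ← mul_assoc y, gc w hw y, mul_assoc, ← mul_assoc, el w hw, one_mul]⟩
        have e5 := SF.modEq_cen_elt (p := 5) (k := 1) h.f5 (i f)
        have e3 := SF.modEq_cen_elt (p := 3) (k := 1) h.d3 (i d)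
        rw [Set.eq_empty_of_forall_notMem (s := {y ∈ {x | x ∈ Q ∧ x ∉ Ph Q} | y * y = x * x} ∩ Cen1 f)
          fun y ⟨⟨⟨a, b⟩, _⟩, e⟩ => b (h.V.2 ⟨a, e⟩), Set.ncard_empty] at e5
        have e6 : {y ∈ {x | x ∈ Q ∧ x ∉ Ph Q} | y * y = x * x} ∩ Cen1 d =
            {y ∈ {x | x ∈ D ∧ x ∉ Ph Q} | y * y = x * x} :=
          Set.ext fun y => ⟨fun ⟨⟨⟨a, b⟩, c⟩, e⟩ => ⟨⟨⟨a, e⟩, b⟩, c⟩, fun ⟨⟨⟨a, e⟩, b⟩, c⟩ => ⟨⟨⟨a, b⟩, c⟩, e⟩⟩
        have e7 := (Set.ncard_pos (s := {y ∈ {x | x ∈ Q ∧ x ∉ Ph Q} | y * y = x * x})).2 ⟨x, ⟨hx, x1⟩, rfl⟩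
        obtain ⟨b, hb⟩ := j D lD
        obtain ⟨a, ha⟩ := j Q PhQ
        rw [e6, Nat.ModEq] at e3
        rw [Nat.ModEq] at e5
        rw [c] at ha hb
        exact ⟨by omega, by omega⟩
    have := p x hx x1
    have := p y hy y1
    have := p z hz z1
    beta_reduce at s1 s2
    omega
  obtain ⟨x, hx, x1⟩ := SF.exists_not_mem (N := Ph Q) (U := Q) (by omega)
  obtain ⟨b, hb, e⟩ : ∃ b ∈ Ph Q, ∀ y ∈ Q, y ∉ Ph Q → y * y = x * x ∨ y * y = b := by
    by_cases r : ∃ y ∈ Q, y ∉ Ph Q ∧ x * x ≠ y * y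
    · obtain ⟨y, hy, y1, r⟩ := r
      exact ⟨_, sqP hy, fun z hz z1 => by_contra fun e =>
        k x hx x1 y hy y1 z hz z1 r (fun a => e (Or.inl a.symm)) fun a => e (Or.inr a.symm)⟩
    · push Not at r
      exact ⟨1, one_mem _, fun y hy y1 => Or.inl (r y hy y1).symm⟩
  have a2 := el _ (sqP hx)
  have m := mul_mem (sqP hx) hb
  have lc := le_cen_symm qc
  by_cases r : x * x ∈ zpowers (x * x * b)
  · have := card_le_of_le (Ph_le (Q := Q) (N := zpowers (x * x * b)) fun y hy => by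
      by_cases y1 : y ∈ Ph Q
      · rw [el y y1]; exact one_mem _
      · rcases e y hy y1 with s | s <;> rw [s]
        exacts [r, (mul_mem_cancel_left r).1 (mem_zpowers _)])
    rw [Nat.card_zpowers, c] at this
    exact absurd (this.trans (orderOf_le_of_pow_eq_one two_pos (by rw [sq, el _ m]))) (by omega)
  · have := aniso (K := Q) (Z := Ph Q) (fun x hx y hy => lc (by simpa using cmP (inv_mem hx) hy))
      ((zpowers_le.2 m).trans lc) (lc (sqP hx)) r fun y hy y1 => ⟨lc (sqP hy), by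
        rcases e y hy y1 with s | s <;> rw [s]
        · simp
        · rw [inv_eq_of_mul_eq_one_right a2, ← gc b hb]; exact mem_zpowers _⟩
    omega

end F5

theorem ind5 (n : ℕ) : ∀ (G : Type u) [Group G] [Finite G] (Q : Subgroup G) (f t d : G),
    Nat.card G < n → F5 Q f t d → Nat.card (Ph Q) ≤ 2 := by
  induction n with
  | zero => intros; omega
  | succ n ih =>
    intro G _ _ Q f t d hn h
    have := h.nQ
    by_cases h0 : Ph Q = ⊥
    · simp [h0]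
    obtain ⟨W, l, nW, W0, wc, el, m⟩ := ex_min h.pQ PhQ h0
    have e := ih _ _ _ _ _ (by have := H7.card_quotient_lt W W0; omega) (h.quot l)
    have e1 := card_mapq l
    rw [← Ph_map] at e1
    have p : 0 < Nat.card (Ph (Q.map (QuotientGroup.mk' W))) := Nat.card_pos
    by_cases r : W ≤ Cen1 f
    · obtain ⟨w, hw, w1⟩ := (W.bot_or_exists_ne_one).resolve_left W0
      have s := h.sm _ inferInstance (le_cen_symm wc) (cen_iff_le.2 r)
      have := card_le_of_le (m _ (zpowers_le.2 hw) (normal_of fun g =>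
        mzp (c1.2 (cen.1 (s.ge (mem_top g)) w hw))) (by simpa using w1))
      rw [Nat.card_zpowers, MT.o2 (el w hw) w1] at this
      have := two_le hw w1
      rw [show Nat.card W = 2 by omega] at e1
      by_contra
      exact h.c4 (by omega)
    · obtain ⟨w, hw, w1⟩ := SetLike.not_le_iff_exists.1 r
      obtain ⟨c, fp⟩ := five (N := ⊥) h.f5 (el_two el) bot_le (fun g _ => nor_of g) (nor_of f) (nor_of f)
        (h.sr _ _ bot_le (fun g _ => nor_of g) el) hw fun e => w1 (c1s.1 (c1'.2 (inv_mul_eq_one.1 e).symm))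
      rw [card_bot] at c
      rcases (by omega : Nat.card (Ph (Q.map (QuotientGroup.mk' W))) = 1 ∨
        Nat.card (Ph (Q.map (QuotientGroup.mk' W))) = 2) with s | s <;> rw [s] at e1
      · obtain rfl := SF.eq_of_le_card l (by omega)
        exact (h.c16 c el wc fp).elim
      · exact (h.c32 l c (by omega) el wc fp).elim

end R4
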