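import Cfsg.Agent.R4.B
import Cfsg.Agent.H8.ES32

/-! The case of a section `A₅`: conclusion. -/

set_option autoImplicit false
set_option linter.unusedVariables false
set_option linter.unusedSectionVars false

namespace R4

open Cfsg Subgroup FT H4 H5 GW L M4 MW

variable {G : Type*} [Group G] [Finite G] {Q W N M H K Y : Subgroup G} {f t d x y g z : G}

theorem odd_two (hQ : IsPGroup 2 Q) (hx : x ∈ Q) (o : Odd (orderOf x)) : x = 1 :=
  eq_one_of_PElt_Reg (PElt_of_mem hQ hx) (odd_reg.1 o)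

theorem lift_p {X : Type*} [Group X] [Finite X] {π : G →* X} (hk : IsPGroup 2 π.ker)
    (s : Function.Surjective π) {p : ℕ} (o : Odd p) {a : X} (ha : a ^ p = 1) : ∃ g, g ^ p = 1 ∧ π g = a := by
  obtain ⟨g, rfl⟩ := s a
  obtain ⟨y, -, y1, y2⟩ := lift_odd π (o.of_dvd_nat (orderOf_dvd_of_pow_eq_one ha))
  exact ⟨y, odd_two hk (by rw [MonoidHom.mem_ker, map_pow, y2, ha])
    (y1.of_dvd_nat (orderOf_pow_dvd p)), y2⟩

theorem lift_conj {X : Type*} [Group X] {π : G →* X} (hk : IsPGroup 2 π.ker) (o : Odd (orderOf f))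
    (hy : y ∈ zpowers f) (e : π (t * f * t⁻¹) = π y) : ∃ s, π s = π t ∧ s * f * s⁻¹ = y := by
  have c : ∀ g : G, Odd (orderOf g) → (Nat.card (zpowers g)).Coprime (Nat.card π.ker) := fun g o =>
    (coprime_card_of_pGroup' hk (odd_iff_cop.1 (by rwa [Nat.card_zpowers]))).symm
  obtain ⟨k, h1, h2⟩ := H5.exists_conj_le (A := zpowers f) (K := π.ker) (fun g _ => nor_of g) (c f o)
    (Or.inr (isSolvable_of_isPGroup hk)) (B := zpowers (t * f * t⁻¹)) (zpowers_le.2 (mem_of_eq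
      (mul_mem (mem_sup_left (show t * f * t⁻¹ * y⁻¹ ∈ π.ker by
        rw [MonoidHom.mem_ker, map_mul, e, map_inv, mul_inv_cancel])) (mem_sup_right hy)) (by group)))
    (c _ (by rwa [oconj]))
  have k1 : π k = 1 := h1
  have m : k * t * f * (k * t)⁻¹ ∈ zpowers f :=
    mem_of_eq (h2 (mem_map_of_mem _ (mem_zpowers _))) (by simp [mul_assoc])
  refine ⟨k * t, by rw [map_mul, k1, one_mul], mul_inv_eq_one.1 (odd_two hk ?_
    (o.of_dvd_nat (orderOf_dvd_of_mem_zpowers (mul_mem m (inv_mem hy)))))⟩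
  simp only [map_mul, map_inv] at e
  simp [k1, ← e]

theorem ntv (hc : Cen (pCore 2 G) ≤ pCore 2 G) (h : g ∉ pCore 2 G) :
    ∃ q ∈ pCore 2 G, q⁻¹ * (g * q * g⁻¹) ∉ Ph (pCore 2 G) := by
  by_contra! r
  refine h (H7.mem_pCore_of_commutator_le_phiS hc fun q hq => Ph_le (N := H7.phiS 2 (pCore 2 G))
    (fun x hx => Subgroup.mem_sup_right (Subgroup.subset_closure ⟨x, hx, (sq x).symm⟩)) (mem_of_eq (r _ (inv_mem hq)) ?_))
  rw [commutatorElement_def]; group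

theorem Ph_sub (l : Q ≤ Y) : (Ph (Q.subgroupOf Y)).map Y.subtype = Ph Q := by
  rw [← Ph_map, map_subgroupOf_eq_of_le l]

theorem ntv' (hc : Cen (pCore 2 G) ≤ pCore 2 G) (l : pCore 2 G ≤ Y) {g : Y} (h : (g : G) ∉ pCore 2 G) :
    ∃ q ∈ (pCore 2 G).subgroupOf Y, q⁻¹ * (g * q * g⁻¹) ∉ Ph ((pCore 2 G).subgroupOf Y) :=
  let ⟨q, hq, e⟩ := ntv hc h
  ⟨⟨q, l hq⟩, hq, fun r => e ((Ph_sub l).le (mem_map_of_mem _ r))⟩

theorem a5_elts : ∃ f t d : alternatingGroup (Fin 5), f ^ 5 = 1 ∧ f ≠ 1 ∧ t * f * t⁻¹ = f⁻¹ ∧ t * t = 1 ∧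
    d ^ 3 = 1 ∧ d ≠ 1 :=
  ⟨⟨c[0, 1, 2, 3, 4], by rw [Equiv.Perm.mem_alternatingGroup]; decide⟩,
    ⟨Equiv.swap 1 4 * Equiv.swap 2 3, by rw [Equiv.Perm.mem_alternatingGroup]; decide⟩,
    ⟨c[0, 1, 2], by rw [Equiv.Perm.mem_alternatingGroup]; decide⟩, by
    simp only [ne_eq, Subtype.ext_iff]; decide +kernel⟩

theorem main5 (hc : Cen (pCore 2 G) ≤ pCore 2 G) (sr : SR G) (A : Subgroup (G ⧸ pCore 2 G))
    (e : A ≃* alternatingGroup (Fin 5)) : (∃ f, F0 (pCore 2 G) f) ∧ Nat.card (Ph (pCore 2 G)) ≤ 2 := by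
  set Q := pCore 2 G
  set Y := A.comap (QuotientGroup.mk' Q)
  set π : Y →* alternatingGroup (Fin 5) := e.toMonoidHom.comp ((QuotientGroup.mk' Q).subgroupComap A)
  have s : Function.Surjective π := e.surjective.comp
    (MonoidHom.subgroupComap_surjective_of_surjective _ _ (QuotientGroup.mk'_surjective _))
  have o : ∀ x : Y, π x = 1 ↔ (x : G) ∈ Q := fun x =>
    (e.map_eq_one_iff.trans Subtype.ext_iff).trans (QuotientGroup.eq_one_iff _)
  have k : π.ker = Q.subgroupOf Y := ext o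
  have l : Q ≤ Y := fun x hx => by
    rw [mem_comap, (QuotientGroup.eq_one_iff x).2 hx |> (show QuotientGroup.mk' Q x = 1 from ·)]
    exact one_mem _
  have p : IsPGroup 2 Q := isPGroup_pCore 2 G
  have p' : IsPGroup 2 π.ker := k ▸ p.comap_subtype
  obtain ⟨f0, t0, d0, h1, h2, h3, h4, h5, h6⟩ := a5_elts
  obtain ⟨f, f5, rfl⟩ := lift_p p' s (by norm_num) h1
  obtain ⟨d, d3, rfl⟩ := lift_p p' s (by norm_num) h5
  obtain ⟨t1, rfl⟩ := s t0
  obtain ⟨t, t1, tf⟩ := lift_conj (t := t1) p' ((by norm_num : Odd 5).of_dvd_nat (orderOf_dvd_of_pow_eq_one f5))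
    (inv_mem (mem_zpowers f)) (by simpa only [map_mul, map_inv] using h3)
  have fQ := mt (o f).2 h2
  have := ind5 _ Y (Q.subgroupOf Y) f t d (Nat.lt_succ_self _) ⟨⟨sr.sub Y, inferInstance, k ▸ p', f5,
    ntv' hc l fQ⟩, fun K a b c => ?_, tf, (o (t * t)).1 (by rw [map_mul, t1, h4]), d3, ntv' hc l (mt (o d).2 h6)⟩
  · exact ⟨⟨f, sr, inferInstance, p, congrArg Subtype.val f5, ntv hc fQ⟩,
      by rwa [← Ph_sub l, card_map_of_injective Y.subtype_injective]⟩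
  · rw [← comap_map_eq_self (k.le.trans b), ((a.map π s).eq_bot_or_eq_top).resolve_left fun r =>
      h2 (r.le (mem_map_of_mem π c)), comap_top]

theorem ord4 (h : H7.ES Q z) (e : x * x = z) : orderOf x = 4 :=
  orderOf_eq_prime_pow (p := 2) (n := 1) (by simpa [sq, e] using h.ne)
    (by rw [show x ^ 2 ^ (1 + 1) = x * x * (x * x) by simp [pow_succ, mul_assoc], e, h.sq_z])

theorem F0.prod (h : F0 Q f) (c : Nat.card (Ph Q) = 2) : Nat.card Q = 32 ∧ ∃ A B : Subgroup G, A ≤ Q ∧ B ≤ Q ∧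
    Nonempty (A ≃* QuaternionGroup 2) ∧ Nonempty (B ≃* DihedralGroup 4) ∧ A ≤ Cen B ∧ A ⊔ B = Q ∧
    A ⊓ B = Q ⊓ Cen Q := by
  have := h.nQ
  obtain ⟨z, es, fz⟩ := h.es c
  have cQ : Nat.card Q = 32 := by rw [h.V.1, c]
  obtain ⟨c10, u⟩ := H8.es_ten es cQ h.f5 (fun q => cmem (nor_of f)) fz (let ⟨q, hq, r⟩ := h.fn
    ⟨q, hq, fun e => r (by rw [e]; simp)⟩)
  obtain ⟨⟨x, hx⟩⟩ := (Nat.card_pos_iff.1 (c10 ▸ by norm_num : 0 < Nat.card {x // H8.ESI Q z x})).1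
  obtain ⟨y, hy, xy⟩ : ∃ y, H8.ESI Q z y ∧ x * y ≠ y * x := by
    by_contra! r
    have := (Set.ncard_le_ncard (s := {x | H8.ESI Q z x}) (t := {x, z * x})
      fun y hy => u x y hx hy (r y hy)).trans (Set.ncard_insert_le x {z * x})
    rw [Set.ncard_singleton] at this
    exact absurd (c10.ge.trans this) (by omega)
  have zc := es.cent
  have e1 : x * y * (x * y) = z := by rw [H8.es_sq_mul es hx.1 hy.1 xy, hx.2.1, hy.2.1]; simp
  have xi : x * (x * y) * x⁻¹ = (x * y)⁻¹ := by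
    rw [← mul_assoc, hx.2.1, mul_inv_rev, inv_eq_of_mul_eq_one_right hy.2.1, one_mul]
  have cy : ∀ a b : G, a * a = z → b ∈ zpowers a → b * b = 1 → b = 1 ∨ b = z := fun a b e hb b2 => by
    by_cases b1 : b = 1
    exacts [Or.inl b1, Or.inr (inv_uniq hb (e ▸ mul_mem (mem_zpowers a) (mem_zpowers a)) (MT.o2 b2 b1)
      (MT.o2 es.sq_z es.ne))]
  have xn : x ∉ zpowers (x * y) := fun r => (cy _ _ e1 r hx.2.1).elim hx.2.2.1 hx.2.2.2
  have xN : x ∈ Nor (zpowers (x * y)) := mnor <| by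
    rintro _ ⟨k, rfl⟩; simp only [← conj_zpow, xi]; exact zpow_mem (inv_mem (mem_zpowers _)) k
  set B := zpowers (x * y) ⊔ zpowers x
  have xB : x ∈ B := mem_sup_right (mem_zpowers _)
  have aB : x * y ∈ B := mem_sup_left (mem_zpowers _)
  have cB : Nat.card B = 8 := by
    rw [SF.card_sup_zp xN (hx.2.1 ▸ one_mem _) xn, Nat.card_zpowers, ord4 es e1]
  have BQ : B ≤ Q := sup_le (zpowers_le.2 (mul_mem hx.1 hy.1)) (zpowers_le.2 hx.1)
  set A := Q ⊓ Cen1 x ⊓ Cen1 y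
  have cA : Nat.card A = 8 := by
    have e := H8.es_c16 es cQ hx.1 hx.2.2.1 hx.2.2.2
    have : _ ≤ 2 * Nat.card A := es.card_le_two_mul hy.1 (A := Q ⊓ Cen1 x) inf_le_left
    have := _root_.TW.half (M := A) (S := Q ⊓ Cen1 x) (lt_of_le_not_ge inf_le_left fun r =>
      xy (c1.1 (r ⟨hx.1, c1.2 rfl⟩).2))
    change Nat.card ↥(Q ⊓ Cen1 x) = 16 at e
    omega
  have AB : A ≤ Cen B := le_cen_symm (sup_le (zpowers_le.2 (cen_iff_le.2 fun a ha => c1s.1
    (mul_mem (c1s.1 ha.1.2) (c1s.1 ha.2)))) (zpowers_le.2 (cen_iff_le.2 fun a ha => ha.1.2)))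
  have sA : ∀ a ∈ A, a ≠ 1 → a ≠ z → a * a = z := fun a ha a1 a2 => (es.sq a ha.1.1).resolve_left fun r => by
    rcases u x a hx ⟨ha.1.1, r, a1, a2⟩ (c1.1 ha.1.2).symm with rfl | rfl
    · exact xy (c1.1 ha.2)
    · exact xy (mul_left_cancel (a := z) (by rw [← mul_assoc, c1.1 ha.2, ← mul_assoc, zc y hy.1, mul_assoc]))
  have zA : z ∈ A := ⟨⟨es.mem, c1.2 (zc x hx.1).symm⟩, c1.2 (zc y hy.1).symm⟩
  have k : ∀ w ∈ zpowers (x * y), w * w = z → w ∉ Cen1 x := fun w hw e r => xy (c1.1 ((mul_mem_cancel_left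
    (c1.2 rfl)).1 (zpowers_le.2 r ((SF.eq_of_le_card (zpowers_le.2 hw) (by
      rw [Nat.card_zpowers, Nat.card_zpowers, ord4 es e, ord4 es e1])).ge (mem_zpowers _))))).symm
  have i : A ⊓ B = Q ⊓ Cen Q := le_antisymm (fun a ⟨ha, hb⟩ => ⟨ha.1.1, cen.2 fun q hq => by
      by_cases a1 : a = 1
      · simp [a1]
      by_cases a2 : a = z
      · rw [a2, zc q hq]
      have a3 := sA a ha a1 a2
      rcases (SF.mem_sup_zp xN (hx.2.1 ▸ one_mem _)).1 hb with r | r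
      · exact (k a r a3 ha.1.2).elim
      · exact (k _ r (by rw [H8.sq_mul_comm (c1.1 ha.1.2), a3, hx.2.1, mul_one])
          (mul_mem ha.1.2 (c1.2 rfl))).elim⟩) fun a ha => by
    rcases es.center a ha.1 fun q hq => (cen.1 ha.2 q hq).symm with rfl | rfl
    exacts [one_mem _, ⟨zA, e1 ▸ mul_mem aB aB⟩]
  refine ⟨cQ, A, B, inf_le_left.trans inf_le_left, BQ, ?_, H7.nonempty_equiv_dihedral (a := ⟨_, aB⟩) (b := ⟨x, xB⟩)
    (by rw [← orderOf_coe, ord4 es e1]) (fun ⟨k, r⟩ => xn ⟨k, congrArg Subtype.val r⟩)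
    (Subtype.ext ((sq x).trans hx.2.1)) (Subtype.ext xi) cB, AB, ?_, i⟩
  · obtain ⟨a, ha, a1⟩ := SF.exists_not_mem (N := zpowers z) (U := A) (by rw [es.card_zpowers, cA]; omega)
    rw [es.mem_zpowers_iff, not_or] at a1
    have a2 := sA a ha a1.1 a1.2
    have za : z ∈ zpowers a := a2 ▸ mul_mem (mem_zpowers a) (mem_zpowers a)
    obtain ⟨b, hb, b1⟩ := SF.exists_not_mem (N := zpowers a) (U := A) (by
      rw [Nat.card_zpowers, ord4 es a2, cA]; omega)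
    have b2 := sA b hb (fun r => b1 (r ▸ one_mem _)) fun r => b1 (r ▸ za)
    have m : ∀ w ∈ zpowers a, a * b ≠ w := fun w hw r => b1 ((mul_mem_cancel_left (mem_zpowers a)).1 (r ▸ hw))
    have ab := sA _ (mul_mem ha hb) (m _ (one_mem _)) (m _ za)
    refine H7.nonempty_equiv_quaternion (a := ⟨a, ha⟩) (b := ⟨b, hb⟩) (by rw [← orderOf_coe, ord4 es a2])
      (fun ⟨k, r⟩ => b1 ⟨k, congrArg Subtype.val r⟩) (Subtype.ext ?_) (Subtype.ext ?_) cA
    · simp [sq, a2, b2]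
    · show b * a * b⁻¹ = a⁻¹
      calc _ = a⁻¹ * (a * b * (a * b)) * (b * b)⁻¹ := by group
        _ = _ := by rw [ab, b2]; group
  · refine SF.eq_of_le_card (sup_le (inf_le_left.trans inf_le_left) BQ) ?_
    have := H6.card_mul_card_le A B
    have e : Nat.card ↥(Q ⊓ Cen Q) ≤ 2 := es.card_zpowers ▸ card_le_of_le fun a ha =>
      es.mem_zpowers_iff.2 (es.center a ha.1 fun q hq => (cen.1 ha.2 q hq).symm)
    rw [i, cA, cB] at this
    nlinarith

end R4
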