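import Cfsg.Agent.R4.D

/-! Nonsolvable subgroups of `A₈` of order divisible by five; sections of rank five. -/

set_option autoImplicit false
set_option linter.unusedVariables false
set_option linter.unusedSectionVars false

namespace R4

open Cfsg Subgroup Equiv MulAction Matrix

variable {Y : Type*} [Group Y] [Finite Y] {σ : Y →* Perm (Fin 8)} {S : Set (Fin 8)}

theorem mv3 {k : Perm (Fin 8)} (e : Perm.sign k = 1) (h : ∀ x ∈ S, k x = x) :
    (5 ≤ S.ncard → k ^ 3 = 1) ∧ (6 ≤ S.ncard → k = 1) := by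
  have c : k.support.card + S.ncard ≤ 8 := by
    have := Set.ncard_add_ncard_compl S
    have := Set.ncard_le_ncard (s := k.support) (t := Sᶜ) fun x hx r => Perm.mem_support.1 hx (h x r)
    rw [Set.ncard_coe_finset, Nat.card_fin] at *; omega
  have := k.card_support_ne_one
  have : k.support.card ≠ 2 := fun r => by simp [(Perm.card_support_eq_two.1 r).sign_eq] at e
  have o := Perm.card_support_eq_zero (f := k)
  refine ⟨fun r => ?_, fun r => o.1 (by omega)⟩
  by_cases r : k.support.card = 3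
  · rw [← (card_support_eq_three_iff.1 r).orderOf, pow_orderOf_eq_one]
  · rw [o.1 (by omega), one_pow]

theorem emb6 (i : Function.Injective σ) (ev : ∀ y, Perm.sign (σ y) = 1) (h : ∀ g, ∀ x ∈ S, σ g x ∈ S) {m : ℕ}
    (c : S.ncard = m) (hm : 6 ≤ m) : ∃ φ : Y →* Perm (Fin m), Function.Injective φ :=
  let ⟨φ, e⟩ := emb σ S h c
  ⟨φ, (injective_iff_map_eq_one _).2 fun g r => i (((mv3 (ev g) ((e g).1 r)).2 (c ▸ hm)).trans (map_one σ).symm)⟩

theorem emb5 (i : Function.Injective σ) (ev : ∀ y, Perm.sign (σ y) = 1) (h : ∀ g, ∀ x ∈ S, σ g x ∈ S)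
    (c : S.ncard = 5) : ∃ φ : Y →* Perm (Fin 5), Nat.card φ.ker = 1 ∨ Nat.card φ.ker = 3 := by
  obtain ⟨φ, e⟩ := emb σ S h c
  obtain ⟨ψ, e'⟩ := emb (σ.comp φ.ker.subtype) Sᶜ (m := 3) (fun g x hx r => hx (by
    have := (e g).1 g.2 _ r
    exact (σ g).injective this ▸ r)) (by
    have := Set.ncard_add_ncard_compl S
    rw [Nat.card_fin] at this; omega)
  have d := card_dvd_of_injective ψ ((injective_iff_map_eq_one _).2 fun g r => Subtype.ext (i (by
    rw [OneMemClass.coe_one, map_one]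
    refine Equiv.ext fun x => ?_
    by_cases s : x ∈ S
    exacts [(e g).1 g.2 x s, (e' g).1 r x s])))
  obtain ⟨n, hn⟩ := IsPGroup.exists_card_eq (p := 3) (G := φ.ker) fun g => ⟨1, Subtype.ext (i (by
    simpa using (mv3 (ev g) ((e g).1 g.2)).1 c.ge))⟩
  rw [Nat.card_perm, Nat.card_fin, hn] at d
  refine ⟨φ, hn ▸ ?_⟩
  have : n ≤ 1 := by
    by_contra r
    exact absurd ((Nat.pow_dvd_pow 3 (by omega : 2 ≤ n)).trans d) (by decide)
  interval_cases n <;> simp

theorem top8 {J : Subgroup (Perm (Fin 8))} (l : J ≤ alternatingGroup (Fin 8)) {a : Fin 8}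
    (h : (stabilizer J a).index = 8) (h5 : 5 ∣ Nat.card J) (h7 : 7 ∣ Nat.card J) :
    J = alternatingGroup (Fin 8) := by
  obtain ⟨φ, i⟩ := emb6 (σ := J.subtype.comp (stabilizer J a).subtype) (S := {a}ᶜ) (m := 7)
    (J.subtype_injective.comp (subtype_injective _)) (fun y => l y.1.2)
    (fun g x hx e => hx (g.1.1.injective (e.trans g.2.symm))) (by
      have := Set.ncard_add_ncard_compl {a}
      rw [Set.ncard_singleton, Nat.card_fin] at this; omega) (by norm_num)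
  have e := (stabilizer J a).card_mul_index
  have c := Nat.card_congr (MonoidHom.ofInjective i).toEquiv
  rw [h] at e
  have := card_le_of_le (D7 (J := φ.range) (by omega) (by omega))
  refine eq_of_le_of_card_ge l ?_
  rw [nat_card_alternatingGroup, Nat.card_fin] at *
  change 2520 ≤ _ at this
  change 20160 ≤ _
  omega

theorem perm8 (i : Function.Injective σ) (ev : ∀ y, Perm.sign (σ y) = 1) (hn : ¬ Group.IsSolvable Y)
    (h5 : 5 ∣ Nat.card Y) : Al Y ∨ (Nat.card (pCore 3 Y) = 3 ∧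
      (Nonempty (Y ⧸ pCore 3 Y ≃* alternatingGroup (Fin 5)) ∨ Nonempty (Y ⧸ pCore 3 Y ≃* Perm (Fin 5)))) := by
  have e0 := MonoidHom.ofInjective i
  have c0 := Nat.card_congr e0.toEquiv
  obtain ⟨S, h, r⟩ := orb8 (J := σ.range) (c0 ▸ h5)
  have h' : ∀ g, ∀ x ∈ S, σ g x ∈ S := fun g => h _ ⟨g, rfl⟩
  rcases r with r | r | ⟨r, s⟩ | ⟨a, r, s⟩
  · obtain ⟨φ, c | c⟩ := emb5 i ev h' r
    · exact Or.inl (al5 hn φ ((MonoidHom.ker_eq_bot_iff _).1 (card_eq_one.1 c)))
    have p : IsPGroup 3 φ.ker := IsPGroup.of_card (n := 1) c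
    have := H5.isSolvable_of_isPGroup p
    have e1 := QuotientGroup.quotientKerEquivRange φ
    have l := S5 (ns_eq e1 fun s => hn ((Group.isSolvable_iff_subgroup_quotient _).2 ⟨this, s⟩))
    have e : pCore 3 Y = φ.ker := le_antisymm (fun x hx => by
      have n : ((pCore 3 Y).map φ).subgroupOf (alternatingGroup (Fin 5)) |>.Normal := ⟨fun y ⟨z, hz, e⟩ g => by
        obtain ⟨w, hw⟩ := l g.2
        exact ⟨w * z * w⁻¹, Normal.conj_mem inferInstance z hz w, by simp [hw, e]⟩⟩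
      have p := ((H4.isPGroup_pCore 3 Y).map φ).comap_subtype (K := alternatingGroup (Fin 5))
      rcases n.eq_bot_or_eq_top with s | s
      · obtain ⟨k, hk⟩ := L.PElt_of_mem (H4.isPGroup_pCore 3 Y) hx
        refine congrArg Subtype.val (s.le (show (⟨φ x, ?_⟩ : alternatingGroup (Fin 5)) ∈ _ from ⟨x, hx, rfl⟩))
        have := congrArg (fun y => Perm.sign (φ y)) hk
        simp only [map_pow, map_one] at this
        rcases Int.units_eq_one_or (Perm.sign (φ x)) with t | t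
        · exact t
        · rw [t, Odd.neg_one_pow (Odd.pow (by decide))] at this; exact absurd this (by decide)
      · obtain ⟨k, hk⟩ := p.exists_card_eq
        change Nat.card (subgroupOf _ _) = _ at hk
        rw [s, card_top, nat_card_alternatingGroup, Nat.card_fin] at hk
        exact absurd (Nat.Prime.dvd_of_dvd_pow Nat.prime_two (hk ▸ by decide : 2 ∣ 3 ^ k)) (by decide))
      (H4.le_pCore inferInstance p)
    exact Or.inr ⟨e ▸ c, (rng l).imp (fun ⟨f⟩ => ⟨((QuotientGroup.quotientMulEquivOfEq e).trans e1).trans f⟩)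
      fun ⟨f⟩ => ⟨((QuotientGroup.quotientMulEquivOfEq e).trans e1).trans f⟩⟩
  · obtain ⟨φ, j⟩ := emb6 i ev h' r le_rfl
    exact Or.inl (al6 hn φ j)
  · obtain ⟨φ, j⟩ := emb6 i ev h' r (by norm_num)
    have c := Nat.card_congr (MonoidHom.ofInjective j).toEquiv
    exact Or.inl (al_of (by norm_num) le_rfl φ j (D7 (c ▸ h5) (c ▸ c0 ▸ s)))
  · exact Or.inl (Or.inl ⟨8, by norm_num, le_rfl, ⟨e0.trans (MulEquiv.subgroupCongr
      (top8 (by rintro _ ⟨g, rfl⟩; exact ev g) r (c0 ▸ h5) s))⟩⟩)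

theorem pair8 {J : Subgroup (Perm (Fin 8))} (l : J ≤ alternatingGroup (Fin 8))
    (c : Nat.card J = 720 ∨ Nat.card J = 5040 ∨ Nat.card J = 20160) : ∃ π ∈ alternatingGroup (Fin 8),
      ∀ k ∈ alternatingGroup (Fin 8), (k 0 = 0 ∧ k 7 = 7 ∨ k 0 = 7 ∧ k 7 = 0) → π * k * π⁻¹ ∈ J := by
  have c8 := H8.card_A8
  rcases c with c | c | c
  · obtain ⟨S, h, r⟩ := orb8 (J := J) (by omega)
    have h' : ∀ g : J, ∀ x ∈ S, J.subtype g x ∈ S := fun g => h _ g.2
    rcases r with r | r | ⟨r, s⟩ | ⟨a, r, s⟩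
    · obtain ⟨φ, e⟩ := emb5 J.subtype_injective (fun y => l y.2) h' r
      have e1 := φ.ker.card_mul_index
      have := card_le_of_le (le_top : φ.range ≤ ⊤)
      rw [index_ker, c] at e1
      rw [card_top, Nat.card_perm, Nat.card_fin] at this
      change _ ≤ 120 at this
      rcases e with e | e <;> rw [e] at e1 <;> omega
    · obtain ⟨a, b, ab, e⟩ := Set.ncard_eq_two.1 (show Sᶜ.ncard = 2 by
        have := Set.ncard_add_ncard_compl S
        rw [Nat.card_fin] at this; omega)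
      have m : ∀ x, x ∈ S ↔ ¬ (x = a ∨ x = b) := fun x => not_not.symm.trans (Set.ext_iff.1 e x).not
      let K : Subgroup (Perm (Fin 8)) :=
        { carrier := {k | Perm.sign k = 1 ∧ ∀ x, k x ∈ S ↔ x ∈ S}
          one_mem' := ⟨map_one _, fun x => Iff.rfl⟩
          mul_mem' := fun a b => ⟨by rw [map_mul, a.1, b.1, one_mul], fun x => (a.2 _).trans (b.2 x)⟩
          inv_mem' := fun {k} a => ⟨by rw [map_inv, a.1, inv_one], fun x => by rw [← a.2]; simp⟩ }
      obtain ⟨φ, j⟩ := emb6 K.subtype_injective (fun y => y.2.1) (fun g x => (g.2.2 x).2) r le_rfl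
      have := Nat.card_le_card_of_injective φ j
      rw [Nat.card_perm, Nat.card_fin] at this
      have eq := eq_of_le_of_card_ge (show J ≤ K from fun g hg => ⟨l hg, fun x =>
        ⟨fun s => by simpa using h _ (inv_mem hg) _ s, h g hg x⟩⟩) (c ▸ this)
      obtain ⟨π, p0, p1, p2⟩ : ∃ π : Perm (Fin 8), Perm.sign π = 1 ∧ π 0 = a ∧ π 7 = b := by
        have e1 : (swap (swap 0 a 7) b * swap 0 a) 0 = a := by
          rw [Perm.mul_apply, swap_apply_left, swap_apply_of_ne_of_ne _ ab]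
          exact fun r => absurd ((swap 0 a).injective ((swap_apply_left 0 a).trans r)) (by decide)
        have e2 : (swap (swap 0 a 7) b * swap 0 a) 7 = b := by simp
        rcases Int.units_eq_one_or (Perm.sign (swap (swap 0 a 7) b * swap 0 a)) with t | t
        exacts [⟨_, t, e1, e2⟩, ⟨_ * swap 1 2, by rw [map_mul, t]; decide, e1, e2⟩]
      refine ⟨π, p0, fun k hk r => eq.ge ⟨by
        rw [map_mul, map_mul, map_inv, p0, show Perm.sign k = 1 from hk]; rfl, fun x => ?_⟩⟩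
      obtain ⟨y, rfl⟩ := π.surjective x
      simp only [m, ← p1, ← p2, Perm.mul_apply, Perm.coe_inv, symm_apply_apply, π.apply_eq_iff_eq]
      rcases r with ⟨r1, r2⟩ | ⟨r1, r2⟩
      · rw [← k.apply_eq_iff_eq (x := y) (y := 0), ← k.apply_eq_iff_eq (x := y) (y := 7), r1, r2]
      · rw [← k.apply_eq_iff_eq (x := y) (y := 0), ← k.apply_eq_iff_eq (x := y) (y := 7), r1, r2, or_comm]
    all_goals omega
  · have e := J.card_mul_index
    rw [c, Nat.card_perm, Nat.card_fin] at e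
    have := alternatingGroup.isSimpleGroup (α := Fin 8) (by simp)
    have e1 := (J.subgroupOf (alternatingGroup (Fin 8))).card_mul_index
    rw [Nat.card_congr (subgroupOfEquivOfLe l).toEquiv, c, c8] at e1
    have := H8.two_mul_card_dvd_factorial_index (H8.not_comm_of_card_not_prime (by rw [c8]; norm_num))
      (J.subgroupOf (alternatingGroup (Fin 8))) fun r => by rw [r, index_top] at e1; omega
    rw [c8, show index _ = 4 by omega] at this
    exact absurd this (by decide)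
  · exact ⟨1, one_mem _, fun k hk _ => by simpa using (eq_of_le_of_card_ge l (by omega)).ge hk⟩

def Ms (s : Fin 3 → ZMod 2) : Matrix (Fin 4) (Fin 4) (ZMod 2) :=
  !![1, 0, s 0, s 1; 0, 1, s 2, s 0; 0, 0, 1, 0; 0, 0, 0, 1]

theorem Ms_mul : ∀ s t, Ms s * Ms t = Ms (s + t) := by decide +kernel
theorem Ms_f : ∀ s, (Ms s)ᵀ * (H8.uu 0 + H8.uu 7) * Ms s = H8.uu 0 + H8.uu 7 ∧ Ms s * Ms s = 1 ∧
    (Ms s = 1 → s = 0) ∧ ∀ v, (Ms s *ᵥ v) 2 = v 2 ∧ (Ms s *ᵥ v) 3 = v 3 := by decide +kernel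
theorem Ms_q : ∀ s, s ≠ 0 → ∃ t, ∀ u v, Ms s *ᵥ u = u → Ms t *ᵥ u = u + Ms s *ᵥ v + v → u 2 = 0 ∧ u 3 = 0 := by
  decide +kernel
theorem Ms_det (s : Fin 3 → ZMod 2) : (Ms s).det = 1 :=
  (H8.zmod2_cases _).resolve_left fun e => by
    have := congrArg det (Ms_f s).2.1
    simp [e] at this

variable {G : Type*} [Group G] [Finite G] {Q N : Subgroup G} {n : ℕ}

theorem c_one (C : H8.Coord Q N n) : C.c 1 = 0 := (C.c_eq_zero 1 (one_mem _)).2 (one_mem _)

theorem c_inv (C : H8.Coord Q N n) {x : G} (hx : x ∈ Q) : C.c x⁻¹ = C.c x := by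
  have := C.c_mul x hx _ (inv_mem hx)
  rw [mul_inv_cancel, c_one] at this
  rw [eq_neg_of_add_eq_zero_right this.symm]; ext i; simp

/-- change of coordinates -/
def cj (C : H8.Coord Q N n) (A : SpecialLinearGroup (Fin n) (ZMod 2)) : H8.Coord Q N n where
  ρ := (MulAut.conj A⁻¹).toMonoidHom.comp C.ρ
  c := fun x => (A⁻¹).1 *ᵥ C.c x
  c_mul := fun x hx y hy => by rw [C.c_mul x hx y hy, mulVec_add]
  c_eq_zero := fun x hx => ⟨fun e => (C.c_eq_zero x hx).1 (by
    have := congrArg (A.1 *ᵥ ·) e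
    simpa only [mulVec_mulVec, H8.sl_mul_inv, one_mulVec, mulVec_zero] using this),
    fun e => by rw [(C.c_eq_zero x hx).2 e, mulVec_zero]⟩
  c_surj := fun v => let ⟨x, hx, e⟩ := C.c_surj (A.1 *ᵥ v); ⟨x, hx, by
    rw [e, mulVec_mulVec, ← H8.sl_mul_val, inv_mul_cancel]; exact one_mulVec v⟩
  c_conj := fun g x hx => by
    rw [C.c_conj g x hx, mulVec_mulVec, mulVec_mulVec, ← H8.sl_mul_val, ← H8.sl_mul_val]; simp

theorem sp4 (sr : SR G) (C : H8.Coord Q N 4) (k : C.ρ.ker = Q) (h : ∀ s, ∃ x, (C.ρ x).1 = Ms s) : False := by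
  have nQ : Q.Normal := k ▸ inferInstance
  have sq : ∀ x s, (C.ρ x).1 = Ms s → C.ρ x * C.ρ x = 1 := fun x s e =>
    Subtype.ext (by rw [H8.sl_mul_val, e]; exact (Ms_f s).2.1)
  have iv : ∀ x s, (C.ρ x).1 = Ms s → (C.ρ x⁻¹).1 = Ms s := fun x s e => by
    rw [map_inv, inv_eq_of_mul_eq_one_right (sq x s e), e]
  let H : Subgroup G :=
    { carrier := {x | ∃ s, (C.ρ x).1 = Ms s}
      one_mem' := ⟨0, by rw [map_one]; decide⟩
      mul_mem' := fun ⟨s, a⟩ ⟨t, b⟩ => ⟨s + t, by rw [map_mul, H8.sl_mul_val, a, b, Ms_mul]⟩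
      inv_mem' := fun ⟨s, a⟩ => ⟨s, iv _ s a⟩ }
  let M : Subgroup G :=
    { carrier := {x | x ∈ Q ∧ C.c x 2 = 0 ∧ C.c x 3 = 0}
      one_mem' := ⟨one_mem _, by simp [c_one]⟩
      mul_mem' := fun a b => ⟨mul_mem a.1 b.1, by simp [C.c_mul _ a.1 _ b.1, a.2, b.2]⟩
      inv_mem' := fun a => ⟨inv_mem a.1, by rw [c_inv C a.1]; exact a.2⟩ }
  have QH : Q ≤ H := fun x hx => ⟨0, by rw [show C.ρ x = 1 from k.ge hx]; decide⟩
  have e := sr M H (fun x hx => QH hx.1) (fun x ⟨s, a⟩ => GW.mnor fun y hy => ⟨nQ.conj_mem y hy.1 x, by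
    rw [C.c_conj x y hy.1, a, ((Ms_f s).2.2.2 _).1, ((Ms_f s).2.2.2 _).2]; exact hy.2⟩) fun x ⟨s, a⟩ => by
    have m : x * x ∈ Q := k.le (by rw [MonoidHom.mem_ker, map_mul, sq x s a])
    refine ⟨m, ?_⟩
    by_cases r : s = 0
    · have : x ∈ Q := k.le (Subtype.ext (a.trans (by rw [r]; decide)))
      simp [C.c_mul x this x this, CharTwo.add_self_eq_zero]
    obtain ⟨t, ht⟩ := Ms_q s r
    obtain ⟨y, b⟩ := h t
    have q : x⁻¹ * (y * x * y⁻¹) ∈ Q := k.le (Subtype.ext (by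
      simp only [map_mul, H8.sl_mul_val, iv x s a, iv y t b, a, b, Ms_mul]
      rw [show s + (t + s + t) = 0 by ext i; simp only [Pi.add_apply, Pi.zero_apply]; generalize s i = a, t i = b; revert a b; decide]
      decide))
    refine ht _ (C.c (x⁻¹ * (y * x * y⁻¹))) (by rw [← a, ← C.c_conj x _ m]; congr 1; group) ?_
    rw [← b, ← C.c_conj y _ m, ← iv x s a, ← C.c_conj _ _ q, ← C.c_mul _ m _ (nQ.conj_mem _ q _),
      ← C.c_mul _ (mul_mem m (nQ.conj_mem _ q _)) _ q]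
    congr 1; group
  have e1 := H4.card_eq_card_map_mul C.ρ H
  have e2 : Nat.card (Fin 3 → ZMod 2) ≤ Nat.card (H.map C.ρ) := Nat.card_le_card_of_injective
    (fun s => ⟨⟨Ms s, Ms_det s⟩, let ⟨x, a⟩ := h s; ⟨x, ⟨s, a⟩, Subtype.ext a⟩⟩) fun s t e => by
      have e : Ms s = Ms t := congrArg (fun x => x.1.1) e
      have := (Ms_f (s + t)).2.2.1 (by rw [← Ms_mul, e, (Ms_f t).2.1])
      rw [eq_neg_of_add_eq_zero_left this]; ext i; simp
  rw [k, inf_of_le_right QH] at e1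
  rw [show Nat.card (Fin 3 → ZMod 2) = 8 by simp] at e2
  obtain ⟨x, hx, a⟩ := C.c_surj ![0, 0, 1, 0]
  obtain ⟨y, hy, b⟩ := C.c_surj ![0, 0, 0, 1]
  have := (TW.idx2 (M := M) (S := Q) (fun x hx => hx.1) (by nlinarith) x hx y hy (fun r => by simpa [a] using r.2.1)
    fun r => by simpa [b] using r.2.2).2.1
  simp [C.c_mul x hx y hy, a, b] at this

theorem part2 (hc : centralizer (pCore 2 G : Set G) ≤ pCore 2 G) (h4 : SectionalPRankLE 2 4 (pCore 2 G))
    (sr : SR G) (c : Nat.card (G ⧸ pCore 2 G) = 720 ∨ Nat.card (G ⧸ pCore 2 G) = 5040 ∨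
      Nat.card (G ⧸ pCore 2 G) = 20160) : False := by
  obtain ⟨n, hn, ⟨C⟩⟩ := H8.exists_coord_core h4
  have k := C.ker_eq hc
  have c1 : Nat.card C.ρ.range = Nat.card (G ⧸ pCore 2 G) := by rw [← index_ker, k, index_eq_card]
  obtain rfl : n = 4 := by
    have := card_le_of_le (le_top : C.ρ.range ≤ ⊤)
    rw [card_top, H8.card_sl_two, c1] at this
    have e : ∀ n ≤ 3, ∏ i : Fin n, (2 ^ n - 2 ^ (i : ℕ)) ≤ 168 := by decide
    by_contra r
    have := e n (by omega)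
    omega
  obtain ⟨π, hπ, h⟩ := pair8 (J := C.ρ.range.map H8.sl42Perm) (by rintro _ ⟨A, -, rfl⟩; exact H8.sl42Perm_mem A)
    (by rwa [card_map_of_injective H8.sl42Perm_injective, c1])
  obtain ⟨A, rfl⟩ : ∃ A, H8.sl42Perm A = π := ⟨H8.sl42Equiv.symm ⟨π, hπ⟩, by
    rw [← H8.sl42Equiv_coe, MulEquiv.apply_symm_apply]⟩
  refine sp4 sr (cj C A) ((Subgroup.ext fun x => (MulAut.conj A⁻¹).map_eq_one_iff).trans k) fun s => ?_
  set B : H8.SL42 := ⟨Ms s, Ms_det s⟩
  obtain ⟨_, ⟨x, rfl⟩, e⟩ := h _ (H8.sl42Perm_mem B) (by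
    have e := H8.sl42Perm_cpt B 0 7
    have e1 : ∀ Z : Matrix (Fin 4) (Fin 4) (ZMod 2), (Ms s)ᵀ * ((Ms s)ᵀ * Z * Ms s) * Ms s = Z := fun Z => by
      rw [← Matrix.mul_assoc, ← Matrix.mul_assoc, ← transpose_mul, Matrix.mul_assoc, (Ms_f s).2.1]; simp
    exact H8.uu_inj 0 7 _ _ (by decide) (by rw [← e1 (_ + _), e, (Ms_f s).1]))
  rw [← map_inv, ← map_mul, ← map_mul] at e
  exact ⟨x, congrArg Subtype.val (show A⁻¹ * C.ρ x * A⁻¹⁻¹ = B by rw [H8.sl42Perm_injective e]; group)⟩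

end R4
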