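import Cfsg.Agent.R4.E

/-! Elements of order seven acting on elementary abelian groups of order at most sixteen. -/

set_option autoImplicit false
set_option linter.unusedVariables false
set_option linter.unusedSectionVars false

namespace R4

open Cfsg Subgroup FT H4 H5 GW L M4 MW

variable {G : Type*} [Group G] [Finite G] {V W N M H K : Subgroup G} {x y g : G}

theorem sev (hg : g ^ 7 = 1) (hV : IsPGroup 2 V) (c : Nat.card V ≤ 16) (n : g ∈ Nor V) (e : ¬ V ≤ Cen1 g) :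
    Nat.card V = 8 * Nat.card ↥(V ⊓ Cen1 g) := by
  have : Fact (Nat.Prime 7) := ⟨by norm_num⟩
  obtain ⟨j, hj⟩ := pw hV (inf_le_left : V ⊓ Cen1 g ≤ V)
  have e1 := idx_mod (by norm_num) hg hV inf_le_left n (minf n (mc1 (c1.2 rfl))) le_rfl hj
  have p : 0 < Nat.card ↥(V ⊓ Cen1 g) := Nat.card_pos
  have : j ≤ 4 := (Nat.pow_le_pow_iff_right (a := 2) (m := 4) (by norm_num)).1 (by nlinarith)
  interval_cases j <;> simp at e1 hj ⊢
  exacts [(e ((SF.eq_of_le_card inf_le_left hj.le).ge.trans inf_le_right)).elim, hj]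

theorem inv8 [V.Normal] (hg : g ^ 7 = 1) (el : ∀ a ∈ V, a * a = 1) (c : Nat.card V = 16) (e : ¬ V ≤ Cen1 g)
    (h5 : ¬ 5 ∣ Nat.card G) : ∃ M ≤ V, M.Normal ∧ (Nat.card M = 2 ∨ Nat.card M = 8) := by
  have : Fact (Nat.Prime 7) := ⟨by norm_num⟩
  have c2 := sev hg (el_two el) c.le (nor_of g) e
  obtain ⟨v, hv, v1⟩ := SF.exists_not_mem (N := ⊥) (U := V ⊓ Cen1 g) (by rw [card_bot]; omega)
  have m : ∀ x ∈ V ⊓ Cen1 g, x = 1 ∨ x = v := fun x hx => by
    simpa [eq_comm (a := v), inv_mul_eq_one] using cov (H := ⊥) bot_le [1, v] (by simpa using hv)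
      (by simpa using v1) (by simp only [card_bot, List.length]; omega) hx
  set O := {x | MT.Cj ⊤ v x}
  have o1 : ∀ k, ∀ x ∈ O, k * x * k⁻¹ ∈ O := fun k x ⟨a, _, r⟩ => ⟨k * a, trivial, by rw [← r]; group⟩
  have o2 : O ⊆ {a | a ∈ V ∧ a ≠ 1} := fun x ⟨a, _, r⟩ =>
    r ▸ ⟨cmem (nor_of a) hv.1, fun s => v1 (by simpa using s)⟩
  have vO : v ∈ O := ⟨1, trivial, by simp⟩
  have o3 := SF.modEq_cen_elt (p := 7) (k := 1) hg (o1 g)
  rw [show O ∩ Cen1 g = {v} from Set.ext fun x => ⟨fun h => (m x ⟨(o2 h.1).1, h.2⟩).resolve_left (o2 h.1).2,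
    fun h => h ▸ ⟨vO, hv.2⟩⟩, Set.ncard_singleton, Nat.ModEq] at o3
  have o4 := SF.ncard_ne_one V
  have o5 := Set.ncard_sdiff_add_ncard_of_subset o2
  have o6 : O.ncard ∣ Nat.card G := card_top (G := G) ▸ Dvd.intro _ (MT.card_cj ⊤ v)
  by_cases r : O.ncard = 1
  · obtain ⟨a, ha⟩ := Set.ncard_eq_one.1 r
    refine ⟨zpowers v, zpowers_le.2 hv.1, normal_of fun k => mzp (c1'.2 ?_),
      Or.inl (by rw [Nat.card_zpowers, MT.o2 (el v hv.1) v1])⟩
    exact (ha.le (o1 k v vO)).trans (ha.le vO).symm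
  have : O.ncard ≠ 15 := fun r => h5 (Dvd.dvd.trans (by rw [r]; decide) o6)
  set P := {a | a ∈ V ∧ a ≠ 1} \ O
  have p1 : ∀ k, ∀ x ∈ P, k * x * k⁻¹ ∈ P := fun k x ⟨⟨a, b⟩, d⟩ => ⟨⟨cmem (nor_of k) a, by simpa using b⟩,
    fun s => d (by simpa [mul_assoc] using o1 k⁻¹ _ s)⟩
  set U := (SF.nrm el (nor_of g)).range
  have u1 : Nat.card V = Nat.card U * _ := SF.card_nrm el (nor_of g)
  have u2 : U ≤ V := by rintro _ ⟨a, rfl⟩; exact mul_mem a.2 (cmem (nor_of g) a.2)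
  have u3 : ∀ x ∈ P ∩ U, g * x * g⁻¹ ∈ P ∩ U := fun x ⟨a, b, d⟩ => ⟨p1 g x a,
    ⟨_, cmem (nor_of g) b.2⟩, by rw [← d]; exact conj_mul⟩
  have u4 := SF.modEq_cen_elt (p := 7) (k := 1) hg u3
  rw [Set.eq_empty_of_forall_notMem (s := P ∩ U ∩ Cen1 g) fun x h => (m x ⟨h.1.1.1.1, h.2⟩).elim h.1.1.1.2
    fun s => h.1.1.2 (s ▸ vO), Set.ncard_empty, Nat.ModEq] at u4
  have u5 := Set.ncard_le_ncard (Set.inter_subset_left (s := P) (t := U))
  have cU : Nat.card U = 8 := by rw [show Nat.card ↥(V ⊓ Cen1 g) = 2 by omega] at u1; omega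
  set M := closure {z | ∃ x ∈ P, ∃ y ∈ P, z = x * y}
  have MU : M ≤ U := (closure_le _).2 <| by
    rintro _ ⟨x, hx, y, hy, rfl⟩
    by_cases s : (P ∩ U).ncard = 0
    · have := (Set.ncard_eq_zero).1 s
      exact TW.idx2 u2 (by omega) x hx.1.1 y hy.1.1 (fun t => this.le ⟨hx, t⟩) fun t => this.le ⟨hy, t⟩
    · have := Set.eq_of_subset_of_ncard_le (Set.inter_subset_left (s := P) (t := U)) (by omega)
      exact mul_mem (this.ge hx).2 (this.ge hy).2
  have nM : M.Normal := normal_of fun k => mnor fun x hx =>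
    (closure_le (M.comap (MulAut.conj k).toMonoidHom)).2 (by
      rintro _ ⟨x, hx, y, hy, rfl⟩
      exact subset_closure ⟨_, p1 k x hx, _, p1 k y hy, conj_mul.symm⟩) hx
  obtain ⟨x, hx, y, hy, xy⟩ := (Set.one_lt_ncard (s := P)).1 (by omega)
  have m1 := two_le (N := M) (subset_closure ⟨x, hx, y, hy, rfl⟩) fun s =>
    xy (mul_right_cancel (s.trans (el y hy.1.1).symm))
  have m2 := mod_cen (M := M) hg (nor_of g)
  have m3 := card_le_of_le (inf_le_inf_right (Cen1 g) (MU.trans u2))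
  have m4 : 0 < Nat.card ↥(M ⊓ Cen1 g) := Nat.card_pos
  have m5 := cU ▸ card_dvd_of_le MU
  have m6 := Nat.le_of_dvd (by norm_num) m5
  refine ⟨M, MU.trans u2, nM, ?_⟩
  rw [Nat.ModEq] at m2
  interval_cases Nat.card M <;> omega

theorem coord3 [M.Normal] [N.Normal] (el : ∀ a ∈ M, a * a ∈ N) (l : N ≤ M) (c : Nat.card M = 8 * Nat.card N) :
    Nonempty (H8.Coord M N 3) := by
  obtain ⟨n, h, C⟩ := H8.exists_coord M N (sup_le (commutator_le.2 fun x hx y hy => Ph_le el (cmP hx hy))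
    ((closure_le _).2 fun _ ⟨x, hx, e⟩ => e ▸ (sq x).symm ▸ el x hx))
  rw [card_mapq l, h] at c
  obtain rfl : n = 3 := Nat.pow_right_injective le_rfl (Nat.eq_of_mul_eq_mul_right Nat.card_pos c)
  exact C

theorem cm_idx [M.Normal] [V.Normal] (l : M ≤ V) (c : Nat.card V ≤ 2 * Nat.card M) (y : G) (hx : x ∈ V) :
    x⁻¹ * (y * x * y⁻¹) ∈ M := by
  by_cases r : x ∈ M
  · exact mul_mem (inv_mem r) (cmem (nor_of y) r)
  · exact TW.idx2 l c _ (inv_mem hx) _ (cmem (nor_of y) hx) (by simpa) fun s =>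
      r (mem_of_eq (cmem' (nor_of y) s) (by group))

theorem cstep (o : Odd (orderOf y)) (hN : IsPGroup 2 N) (n : y ∈ Nor N) (l : N ≤ Cen1 y)
    (h : ∀ x ∈ M, x⁻¹ * (y * x * y⁻¹) ∈ N) : M ≤ Cen1 y := fun x hx =>
  let ⟨m, hm, e⟩ := ca1 o hN n (h x hx)
  (mul_mem_cancel_right (l hm)).1 e

abbrev SL3 := Matrix.SpecialLinearGroup (Fin 3) (ZMod 2)

theorem card_SL3 : Nat.card SL3 = 168 := by rw [H8.card_sl_two]; decide

theorem sl3_top {J : Subgroup SL3} (hn : ¬ Group.IsSolvable J) : J = ⊤ := by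
  by_contra r
  have := H8.sl_two_simple (ι := Fin 3) (by simp)
  have e := J.card_mul_index
  have := H8.two_mul_card_dvd_factorial_index (H8.not_comm_of_card_not_prime (by rw [card_SL3]; norm_num)) J r
  rw [card_SL3] at e this
  obtain ⟨k, hk⟩ := dv12 (a := 3) (b := 1) (r := 7) (by norm_num) (by norm_num) (by norm_num) hn (Dvd.intro _ e)
  have e2 : J.index ≤ 2 := Nat.le_of_dvd two_pos ⟨k, by rw [hk] at e; nlinarith⟩
  interval_cases J.index <;> simp [Nat.factorial] at this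

theorem lin [V.Normal] (el : ∀ a ∈ V, a * a = 1) (c : Nat.card V ≤ 16) (hc : Cen V ≤ V)
    (h2 : ∀ K : Subgroup G, K.Normal → IsPGroup 2 K → K ≤ V) (hn : ¬ Group.IsSolvable G)
    (h5 : ¬ 5 ∣ Nat.card G) (h7 : 7 ∣ Nat.card G) : ∃ ρ : G →* SL3, Function.Surjective ρ ∧ ρ.ker = V := by
  have : Fact (Nat.Prime 7) := ⟨by norm_num⟩
  have p := el_two el
  obtain ⟨g, hg⟩ := exists_prime_orderOf_dvd_card' 7 h7
  have g7 : g ^ 7 = 1 := hg ▸ pow_orderOf_eq_one g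
  have e : ¬ V ≤ Cen1 g := fun r => by
    rw [odd_two p (hc (cen_iff_le.2 r)) (hg ▸ by decide)] at hg; simp at hg
  have c2 := sev g7 p c (nor_of g) e
  have p0 : 0 < Nat.card ↥(V ⊓ Cen1 g) := Nat.card_pos
  obtain ⟨M, N, nM, nN, l, l', c3, c4, c5⟩ : ∃ M N : Subgroup G, M.Normal ∧ N.Normal ∧ N ≤ M ∧ M ≤ V ∧
      Nat.card M = 8 * Nat.card N ∧ Nat.card V ≤ 2 * Nat.card M ∧ Nat.card N ≤ 2 := by
    by_cases r : Nat.card V = 16
    · obtain ⟨M, l, n, s | s⟩ := inv8 g7 el r e h5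
      exacts [⟨V, M, ‹_›, n, l, le_rfl, by omega, by omega, s.le⟩,
        ⟨M, ⊥, n, inferInstance, bot_le, l, by simp [s], by omega, by simp⟩]
    · exact ⟨V, ⊥, ‹_›, inferInstance, bot_le, le_rfl, by rw [card_bot]; omega, by omega, by simp⟩
  obtain ⟨C⟩ := coord3 (fun a ha => el a (l' ha) ▸ one_mem N) l c3
  have k : C.ρ.ker = V := le_antisymm (h2 _ inferInstance fun x => by
    obtain ⟨s, y, h1, h2, -, e, -, h6⟩ := exists_decomp (p := 2) x.1
    have o := odd_reg.2 h2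
    have := cstep o (p.to_le l') (nor_of y) (cstep o (p.to_le (l.trans l')) (nor_of y) (cstep o IsPGroup.of_bot
      (nor_of y) bot_le fun x => cm_idx bot_le (by simpa) y) fun a ha => mem_of_eq
      (C.mem_ker.1 (zpowers_le.2 x.2 h6) _ (inv_mem ha)) (by rw [commutatorElement_def]; group))
      fun a => cm_idx l' c4 y
    rw [odd_two p (hc (cen_iff_le.2 this)) o, mul_one] at e
    exact PElt_coe.1 (e ▸ h1)) fun x hx => C.mem_ker.2 fun q hq => by
      rw [commutatorElement_def, el_comm el (l' hq) hx]; simp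
  have := isSolvable_of_isPGroup (k ▸ p : IsPGroup 2 C.ρ.ker)
  exact ⟨C.ρ, MonoidHom.range_eq_top.1 (sl3_top (ns_eq (QuotientGroup.quotientKerEquivRange _) fun s =>
    hn ((Group.isSolvable_iff_subgroup_quotient _).2 ⟨this, s⟩))), k⟩

theorem card_Ph {Q : Subgroup G} (h : SR Q) : Nat.card Q ≤ 16 * Nat.card (Ph Q) := by
  have := h.Ph (Q := ⊤)
  rwa [card_top, ← card_map_of_injective Q.subtype_injective, ← Ph_map, ← MonoidHom.range_eq_map,
    range_subtype] at this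

theorem lin' (hc : Cen (pCore 2 G) ≤ pCore 2 G) (h4 : SR (pCore 2 G)) (hn : ¬ Group.IsSolvable G)
    (h5 : ¬ 5 ∣ Nat.card (G ⧸ pCore 2 G)) (h7 : 7 ∣ Nat.card (G ⧸ pCore 2 G)) :
    Nonempty (G ⧸ pCore 2 G ≃* Matrix.ProjectiveSpecialLinearGroup (Fin 3) (ZMod 2)) := by
  set Q := pCore 2 G
  set π := QuotientGroup.mk' (Ph Q)
  have s := QuotientGroup.mk'_surjective (Ph Q)
  have p : IsPGroup 2 Q := isPGroup_pCore 2 G
  have o : ∀ x, π x = 1 ↔ x ∈ Ph Q := fun x => QuotientGroup.eq_one_iff x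
  have : (Q.map π).Normal := Normal.map inferInstance _ s
  obtain ⟨j, hj⟩ := pw p PhQ
  have c : Nat.card (G ⧸ Ph Q) = Nat.card (G ⧸ Q) * 2 ^ j := Nat.eq_of_mul_eq_mul_right Nat.card_pos (by
    rw [mul_assoc, ← hj, ← card_eq_card_quotient_mul_card_subgroup, ← card_eq_card_quotient_mul_card_subgroup])
  obtain ⟨ρ, r1, r2⟩ := lin (V := Q.map π) (by rintro _ ⟨a, ha, rfl⟩; rw [← map_mul, o]; exact sqP ha)
    (Nat.le_of_mul_le_mul_right ((card_mapq PhQ).ge.trans (card_Ph h4)) Nat.card_pos) (fun x hx => by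
      obtain ⟨x, rfl⟩ := s x
      refine mem_map_of_mem _ (by_contra fun r => ?_)
      obtain ⟨q, hq, e⟩ := ntv hc r
      exact e ((o _).1 (by
        simp only [map_mul, map_inv]; rw [show π x * π q = π q * π x from cen.1 hx _ (mem_map_of_mem _ hq)]; group)))
    (fun K n hK => (map_comap_eq_self_of_surjective s K).ge.trans (map_mono (le_pCore (n.comap _)
      (hK.comap_of_ker_isPGroup _ (by rw [QuotientGroup.ker_mk']; exact p.to_le PhQ)))))
    (fun r => hn ((Group.isSolvable_iff_subgroup_quotient _).2 ⟨isSolvable_of_isPGroup (p.to_le PhQ), r⟩))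
    (fun r => h5 ((Nat.Coprime.pow_right j (by norm_num)).dvd_of_dvd_mul_right (c ▸ r))) (c ▸ h7.mul_right _)
  have k : Q = (ρ.comp π).ker := ext fun x => (mem_mapq PhQ).symm.trans (r2 ▸ Iff.rfl)
  exact ⟨(((QuotientGroup.quotientMulEquivOfEq k).trans (QuotientGroup.quotientKerEquivOfSurjective _
    (r1.comp s))).trans QuotientGroup.quotientBot.symm).trans
    (QuotientGroup.quotientMulEquivOfEq H8.center_sl_two.symm)⟩

end R4
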