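import Cfsg.Agent.R4.F

/-! Finite checks in `SL(3,2)`. -/

set_option autoImplicit false
set_option synthInstance.maxSize 2000

namespace R4

open Matrix

abbrev V3 := Fin 3 → ZMod 2
abbrev M3 := Matrix (Fin 3) (Fin 3) (ZMod 2)
abbrev P2 := ZMod 2 × ZMod 2

def det3 (A : M3) : ZMod 2 := A 0 0 * A 1 1 * A 2 2 - A 0 0 * A 1 2 * A 2 1 - A 0 1 * A 1 0 * A 2 2 +
  A 0 1 * A 1 2 * A 2 0 + A 0 2 * A 1 0 * A 2 1 - A 0 2 * A 1 1 * A 2 0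

def mkS (A : M3) (h : det3 A = 1) : SL3 := ⟨A, (det_fin_three A).trans h⟩

def Te (p : P2) : M3 := !![1, p.1, p.2; 0, 1, 0; 0, 0, 1]
def dM : M3 := !![1, 0, 0; 0, 0, 1; 0, 1, 1]
def sM : M3 := !![1, 0, 0; 0, 0, 1; 0, 1, 0]
def jM : M3 := !![0, 0, 1; 1, 0, 1; 1, 1, 0]
def dp (p : P2) : P2 := (p.1 + p.2, p.1)
def L0 (v : V3) : Prop := v 1 = 0 ∧ v 2 = 0
instance (v : V3) : Decidable (L0 v) := by unfold L0; infer_instance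
def tv (a b : V3) : M3 := Matrix.of fun i j => (if i = j then 1 else 0) + a i * b j
def om : V3 := ![0, 1, 1] + dM *ᵥ ![0, 1, 1]

theorem T1 : ∀ u v : V3, u ≠ 0 → v ≠ 0 → u ≠ v → ∃ A : M3, det3 A = 1 ∧ A *ᵥ u = v ∧ A *ᵥ v = u + v := by
  decide +kernel
theorem T3 : ∀ u v w : V3, w ≠ 0 → w ≠ u → w ≠ v → w ≠ u + v →
    ∃ a b, det3 (tv a b) = 1 ∧ tv a b *ᵥ u = u ∧ tv a b *ᵥ v = v ∧ tv a b *ᵥ w ≠ w := by decide +kernel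
theorem Te_mul : ∀ p q, Te p * Te q = Te (p + q) := by decide +kernel
theorem Te_f : ∀ p, det3 (Te p) = 1 ∧ dM * Te p * (dM * dM) = Te (dp p) ∧ dM * dM * Te p * dM = Te (dp (dp p)) ∧
    sM * Te p * sM = Te p.swap ∧ (Te p = 1 → p = 0) ∧ p + dp p + dp (dp p) = 0 ∧ p + p = 0 ∧
    (∃ v, Te p *ᵥ v = v ∧ ¬ L0 v) ∧ (p = 0 ∨ p = (1, 1) ∨ dp p = (1, 1) ∨ dp (dp p) = (1, 1)) := by
  decide +kernel
theorem Te_v : ∀ p v, L0 (v + Te p *ᵥ v) ∧ (dM *ᵥ v = Te p *ᵥ v → L0 v) ∧ (L0 v → Te p *ᵥ v = v) ∧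
    (p ≠ 0 → L0 v → ∃ u, u + Te p *ᵥ u = v) := by decide +kernel
theorem ds_f : det3 dM = 1 ∧ det3 sM = 1 ∧ det3 jM = 1 ∧ dM * (dM * dM) = 1 ∧ sM * sM = 1 ∧
    sM * dM * sM = dM * dM ∧ jM * Te (1, 1) = sM * jM ∧ Te 0 = 1 ∧
    sM * Te (1, 0) * (sM * Te (1, 0)) = Te (1, 1) ∧ om + dM *ᵥ om + (dM * dM) *ᵥ om = 0 ∧
    sM *ᵥ ![0, 1, 1] = ![0, 1, 1] := by decide +kernel
theorem ds_v : ∀ v : V3, (L0 v → dM *ᵥ v = v ∧ sM *ᵥ v = v ∧ (v = 0 ∨ v = ![1, 0, 0])) ∧ (dM *ᵥ v = v → L0 v) ∧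
      ((sM * Te (1, 0)) *ᵥ v = v → L0 v) ∧ (L0 (dM *ᵥ v) → L0 v) ∧ (L0 ((dM * dM) *ᵥ v) → L0 v) ∧ v + v = 0 ∧
      (v + dM *ᵥ v + (dM * dM) *ᵥ v = 0 → (sM * (dM * dM)) *ᵥ v = v → v = 0 ∨ v = om) := by decide +kernel
theorem L0_add : ∀ u v : V3, L0 u → L0 v → L0 (u + v) := by decide +kernel

end R4
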