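import Cfsg.Agent.R4.G0

/-! The parabolic subgroup of a group with `G / Q ≅ L₃(2)`. -/

set_option autoImplicit false
set_option linter.unusedVariables false
set_option linter.unusedSectionVars false

namespace R4

open Cfsg Subgroup FT H4 H5 GW L M4 MW
open scoped Matrix

variable {G : Type*} [Group G] [Finite G] {Q W N M H K Y A Z : Subgroup G} {x y z d s g : G} {ρ : G →* SL3}

theorem cos_le (HK : H ≤ K) (l : List G) (hl : ∀ x ∈ l, x ∈ K) (p : l.Pairwise fun a b => a⁻¹ * b ∉ H) :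
    l.length * Nat.card H ≤ Nat.card K :=
  ((ncard_cos H l).2 p).ge.trans (Set.ncard_le_ncard (t := (K : Set G)) fun y ⟨x, h1, h2⟩ =>
    (mul_mem_cancel_left (inv_mem (hl x h1))).1 (HK h2))

theorem trq (n : x * x ∈ Nor N) (c1 : x⁻¹ * (y * z) * x * (y * z)⁻¹ ∈ N) (c2 : y⁻¹ * z * y * z⁻¹ ∈ N)
    (t : x * y * z * (x * y * z) ∈ N) (a : x * x * (x * x) ∈ N) (a1 : (x * x)⁻¹ * (y * y) ∈ N)
    (a2 : (x * x)⁻¹ * (z * z) ∈ N) : x * x ∈ N :=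
  mem_of_eq (mul_mem (mul_mem (inv_mem (mul_mem (mul_mem (mul_mem (cmem n c1) a) a1) c2)) t) (inv_mem a2))
    (by simp [mul_assoc])

theorem sqN (hx : x ∈ Cen Y) (hy : y ∈ Cen Y) (hz : z ∈ Cen Y) (a : x * x ∈ Y) (e1 : y * y = x * x)
    (e2 : z * z = x * x) (t : x * y * z ∈ Y) (sq : ∀ y ∈ Y, y * y ∈ N) (iv : ∀ y ∈ Y, y * y = 1 → y ∈ N)
    (l : N ≤ Y) : x * x ∈ N := by
  have k : x⁻¹ * (y * z) * x = y * z := by
    calc _ = x⁻¹ * x⁻¹ * (x * y * z * x) := by group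
      _ = _ := by rw [← cen.1 hx _ t]; group
  have m : y⁻¹ * z * y * z⁻¹ ∈ Y := by
    have : y * z * (y * z) ∈ Y := mem_of_eq (mul_mem (inv_mem a) (mul_mem t t)) (by
      calc _ = x⁻¹ * (y * z) * x * (y * z) := by group
        _ = _ := by rw [k])
    exact mem_of_eq (mul_mem (mul_mem (inv_mem (e1 ▸ a)) this) (inv_mem (e2 ▸ a))) (by group)
  refine trq (mcnor (cen.2 fun n hn => ?_)) (by rw [k, mul_inv_cancel]; exact one_mem _) (iv _ m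
    (cm_sq (u := y⁻¹) (v := z) (by rw [inv_inv]) (cen.1 (inv_mem hy) _ m).symm ?_)) (sq _ t) (sq _ a)
    (by rw [e1, inv_mul_cancel]; exact one_mem _) (by rw [e2, inv_mul_cancel]; exact one_mem _)
  · exact cen.1 (mul_mem hx hx) n (l hn)
  · rw [← mul_inv_rev]; exact (cen.1 hz _ (inv_mem (e1 ▸ a))).symm

/-- the trace of `x` under an element `d` of order three -/
def tr (d x : G) : G := x * (d * x * d⁻¹) * (d⁻¹ * x * d)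

theorem trc (hy : y ∈ Cen1 d) (n : G) (e : x * y * x⁻¹ = y * n) (n2 : n * n = 1) (nd : n ∈ Cen1 d)
    (c1 : n ∈ Cen1 (d * x * d⁻¹)) (t : y ∈ Cen1 (tr d x)) : x ∈ Cen1 y := by
  have a := GW.c1'.1 (c1s.1 hy)
  have b := GW.c1'.1 (c1s.1 nd)
  have a' := GW.c1'.1 (inv_mem (c1s.1 hy))
  have b' := GW.c1'.1 (inv_mem (c1s.1 nd))
  have e1 : d * x * d⁻¹ * y * (d * x * d⁻¹)⁻¹ = y * n := by
    calc _ = d * (x * (d⁻¹ * y * d⁻¹⁻¹) * x⁻¹) * d⁻¹ := by group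
      _ = _ := by rw [a', e, ← conj_mul, a, b]
  have e2 : d⁻¹ * x * d * y * (d⁻¹ * x * d)⁻¹ = y * n := by
    calc _ = d⁻¹ * (x * (d * y * d⁻¹) * x⁻¹) * d⁻¹⁻¹ := by group
      _ = _ := by rw [a, e, ← conj_mul, a', b']
  have := GW.c1'.1 (c1s.1 t)
  rw [show tr d x * y * (tr d x)⁻¹ = x * (d * x * d⁻¹ * (d⁻¹ * x * d * y * (d⁻¹ * x * d)⁻¹) * (d * x * d⁻¹)⁻¹) * x⁻¹
    by simp [tr, mul_assoc], e2, ← conj_mul (b := d * x * d⁻¹), e1, GW.c1'.1 (c1s.1 c1), mul_assoc y n n, n2, mul_one, e] at this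
  exact GW.c1'.2 (e.trans this)

theorem rm (x y : G) : (ρ (x * y)).1 = (ρ x).1 * (ρ y).1 := by rw [map_mul]; rfl

theorem ri {B : M3} (h : (ρ x).1 * B = 1) : (ρ x⁻¹).1 = B := by
  rw [← mul_one (ρ x⁻¹).1, ← h, ← mul_assoc, ← rm, inv_mul_cancel, map_one]; exact one_mul B

theorem r1 : (ρ x).1 = 1 ↔ x ∈ ρ.ker := ⟨fun h => Subtype.ext h, fun h => congrArg Subtype.val h⟩

theorem riT {p : P2} (h : (ρ x).1 = Te p) : (ρ x⁻¹).1 = Te p :=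
  ri (by rw [h, Te_mul, (Te_f p).2.2.2.2.2.2.1, ds_f.2.2.2.2.2.2.2.1])

/-- the preimage of a four-group -/
def Rr (ρ : G →* SL3) : Subgroup G where
  carrier := {x | ∃ p, (ρ x).1 = Te p}
  one_mem' := ⟨0, by rw [map_one]; exact ds_f.2.2.2.2.2.2.2.1.symm⟩
  mul_mem' := fun ⟨p, a⟩ ⟨q, b⟩ => ⟨p + q, by rw [rm, a, b, Te_mul]⟩
  inv_mem' := fun ⟨p, a⟩ => ⟨p, riT a⟩

theorem kR : ρ.ker ≤ Rr ρ := fun x hx => ⟨0, (r1.2 hx).trans ds_f.2.2.2.2.2.2.2.1.symm⟩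

theorem Rsq (h : x ∈ Rr ρ) : x * x ∈ ρ.ker := let ⟨p, a⟩ := h
  r1.1 (by rw [rm, a, Te_mul, (Te_f p).2.2.2.2.2.2.1, ds_f.2.2.2.2.2.2.2.1])

theorem rdi (hd : (ρ d).1 = dM) : (ρ d⁻¹).1 = dM * dM := ri (by rw [hd, ds_f.2.2.2.1])
theorem rsi (hs : (ρ s).1 = sM) : (ρ s⁻¹).1 = sM := ri (by rw [hs, ds_f.2.2.2.2.1])
theorem rd1 {p : P2} (hd : (ρ d).1 = dM) (a : (ρ x).1 = Te p) : (ρ (d * x * d⁻¹)).1 = Te (dp p) := by
  rw [rm, rm, rdi hd, hd, a, (Te_f p).2.1]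
theorem rd2 {p : P2} (hd : (ρ d).1 = dM) (a : (ρ x).1 = Te p) : (ρ (d⁻¹ * x * d)).1 = Te (dp (dp p)) := by
  rw [rm, rm, rdi hd, hd, a, (Te_f p).2.2.1]
theorem rs1 {p : P2} (hs : (ρ s).1 = sM) (a : (ρ x).1 = Te p) : (ρ (s * x * s⁻¹)).1 = Te p.swap := by
  rw [rm, rm, rsi hs, hs, a, (Te_f p).2.2.2.1]

theorem Rtr (hd : (ρ d).1 = dM) (h : x ∈ Rr ρ) : tr d x ∈ ρ.ker := let ⟨p, a⟩ := h
  r1.1 (by rw [tr, rm, rm, rd1 hd a, rd2 hd a, a, Te_mul, Te_mul, (Te_f p).2.2.2.2.2.1, ds_f.2.2.2.2.2.2.2.1])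

theorem Rd (hd : (ρ d).1 = dM) : d ∈ Nor (Rr ρ) := mnor fun x ⟨p, a⟩ => ⟨_, rd1 hd a⟩
theorem Rs (hs : (ρ s).1 = sM) : s ∈ Nor (Rr ρ) := mnor fun x ⟨p, a⟩ => ⟨_, rs1 hs a⟩

theorem lifts (hk : IsPGroup 2 ρ.ker) (sj : Function.Surjective ρ) : ∃ d s, d ^ 3 = 1 ∧ (ρ d).1 = dM ∧
    (ρ s).1 = sM ∧ s * d * s⁻¹ = d⁻¹ := by
  obtain ⟨d, d3, hd⟩ := lift_p hk sj (p := 3) (by norm_num) (a := mkS dM ds_f.1)
    (Subtype.ext (by rw [pow_three]; exact ds_f.2.2.2.1))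
  obtain ⟨t, ht⟩ := sj (mkS sM ds_f.2.1)
  have hd : (ρ d).1 = dM := congrArg Subtype.val hd
  have ht : (ρ t).1 = sM := congrArg Subtype.val ht
  obtain ⟨s, h1, h2⟩ := lift_conj (t := t) hk ((by norm_num : Odd 3).of_dvd_nat (orderOf_dvd_of_pow_eq_one d3))
    (inv_mem (mem_zpowers d)) (Subtype.ext (by rw [rm, rm, rsi ht, rdi hd, hd, ht, ds_f.2.2.2.2.2.1]))
  exact ⟨d, s, d3, hd, h1 ▸ ht, h2⟩

structure PS (C : H8.Coord M Z 3) (Q : Subgroup G) (d s : G) : Prop where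
  k : C.ρ.ker = Q
  sj : Function.Surjective C.ρ
  l : M ≤ Q
  nM : M.Normal
  ix : Nat.card Q ≤ 2 * Nat.card M
  d3 : d ^ 3 = 1
  hd : (C.ρ d).1 = dM
  hs : (C.ρ s).1 = sM
  sd : s * d * s⁻¹ = d⁻¹
  sq : ∀ x ∈ Rr C.ρ, x * x ∈ M

theorem dd (h : d ^ 3 = 1) : d * d = d⁻¹ := eq_inv_of_mul_eq_one_left (by rw [← h, pow_three'])

theorem tr_d (h : d ^ 3 = 1) (x : G) : d * tr d x * d⁻¹ = x⁻¹ * tr d x * x := by
  calc _ = d * x * d⁻¹ * (d * d * x * (d * d)⁻¹) * x := by unfold tr; group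
    _ = _ := by rw [dd h]; unfold tr; group

theorem tr_cj (d x : G) : tr d (d * x * d⁻¹) = d * tr d x * d⁻¹ := by unfold tr; group

namespace PS
variable {C : H8.Coord M Z 3} (h : PS C Q d s)
include h

theorem cm (hx : x ∈ Rr C.ρ) (hy : y ∈ Rr C.ρ) : x * y * x⁻¹ * y⁻¹ ∈ M := Ph_le h.sq (cmP hx hy)

theorem trm (hx : x ∈ Rr C.ρ) (hy : y ∈ Rr C.ρ) : tr d (x * y) * (tr d x * tr d y)⁻¹ ∈ M := by
  have := h.nM
  have n := Rd h.hd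
  exact mem_of_eq (mul_mem (cmem (nor_of x) (h.cm hy (cmem n hx))) (cmem (nor_of (x * (d * x * d⁻¹)))
    (h.cm (mul_mem hy (cmem n hy)) (cmem' n hx)))) (by simp [tr, mul_assoc])

theorem trQ (hx : x ∈ Q) : tr d x * x⁻¹ ∈ M := by
  have := h.nM
  have : Q.Normal := h.k ▸ inferInstance
  have a := cm_idx h.l h.ix d⁻¹ hx
  exact mem_of_eq (mul_mem (mul_mem (h.sq x (kR (h.k.ge hx))) (cm_idx h.l h.ix d hx)) (cmem (nor_of x) a))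
    (by unfold tr; group)

theorem mulH (hx : x ∈ Rr C.ρ ∧ tr d x ∈ M) (hy : y ∈ Rr C.ρ ∧ tr d y ∈ M) :
    x * y ∈ Rr C.ρ ∧ tr d (x * y) ∈ M :=
  ⟨mul_mem hx.1 hy.1, (mul_mem_cancel_right (inv_mem (mul_mem hx.2 hy.2))).1 (h.trm hx.1 hy.1)⟩

theorem MH' (hx : x ∈ M) : x ∈ Rr C.ρ ∧ tr d x ∈ M :=
  ⟨kR (h.k.ge (h.l hx)), (mul_mem_cancel_right (inv_mem hx)).1 (h.trQ (h.l hx))⟩

/-- elements of the four-group preimage with trace in `M` -/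
def H0 : Subgroup G where
  carrier := {x | x ∈ Rr C.ρ ∧ tr d x ∈ M}
  one_mem' := h.MH' (one_mem _)
  mul_mem' := h.mulH
  inv_mem' := fun {x} hx => by
    have := h.mulH hx (h.MH' (inv_mem (h.sq x hx.1)))
    rwa [show x * (x * x)⁻¹ = x⁻¹ by group] at this

theorem MH : M ≤ h.H0 := fun _ => h.MH'

theorem HQ (hx : x ∈ h.H0) (e : (C.ρ x).1 = Te 0) : x ∈ M := by
  have := h.trQ (h.k.le (r1.1 (e.trans ds_f.2.2.2.2.2.2.2.1)))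
  exact inv_mem_iff.1 ((mul_mem_cancel_left hx.2).1 this)

theorem exH (p : P2) : ∃ x ∈ h.H0, (C.ρ x).1 = Te p := by
  obtain ⟨x, e⟩ := h.sj (mkS (Te p) (Te_f p).1)
  have e : (C.ρ x).1 = Te p := congrArg Subtype.val e
  have hx : x ∈ Rr C.ρ := ⟨p, e⟩
  have t := Rtr h.hd hx
  refine ⟨x * tr d x, ⟨mul_mem hx (kR t), ?_⟩, by rw [rm, e, r1.2 t, mul_one]⟩
  have := h.nM
  exact mem_of_eq (mul_mem (mul_mem (h.trm hx (kR t)) (cmem (nor_of (tr d x)) (h.trQ (h.k.le t))))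
    (h.sq _ (kR t))) (by group)

theorem Hd : d ∈ Nor h.H0 := mnor fun x hx => ⟨cmem (Rd h.hd) hx.1, by
  have := h.nM
  rw [tr_cj]; exact cmem (nor_of d) hx.2⟩

theorem Hs : s ∈ Nor h.H0 := mnor fun x hx => ⟨cmem (Rs h.hs) hx.1, by
  have := h.nM
  have n := Rd h.hd
  have e : d = s * d⁻¹ * s⁻¹ := inv_injective (h.sd.symm.trans (by group))
  refine mem_of_eq (cmem (nor_of s) (mul_mem hx.2 (h.cm (inv_mem (cmem' n hx.1)) (inv_mem (cmem n hx.1))))) ?_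
  calc _ = tr (s * d⁻¹ * s⁻¹) (s * x * s⁻¹) := by unfold tr; group
    _ = _ := by rw [← e]⟩

theorem s2 : s * s ∈ M := by
  have := h.nM
  obtain ⟨j, e⟩ := h.sj (mkS jM ds_f.2.2.1)
  have e : (C.ρ j).1 = jM := congrArg Subtype.val e
  refine mem_of_eq (cmem (nor_of j) (h.sq (j⁻¹ * s * j) ⟨(1, 1), ?_⟩)) (by group)
  rw [mul_assoc, rm, rm, e, h.hs, ← ds_f.2.2.2.2.2.2.1, ← e, ← mul_assoc, ← rm, inv_mul_cancel, map_one]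
  exact one_mul _

theorem trL (hx : x ∈ h.H0) : L0 (C.c (tr d x)) := by
  obtain ⟨⟨p, a⟩, b⟩ := hx
  refine (Te_v p _).2.1 ?_
  rw [← h.hd, ← riT a, ← C.c_conj _ _ b, ← C.c_conj _ _ b, tr_d h.d3, inv_inv]

theorem sqL (el : ∀ m ∈ M, m * m ∈ Z) (hx : x ∈ h.H0) : L0 (C.c (x * x)) := by
  have := h.nM
  obtain ⟨e, he, ep⟩ := h.exH (1, 0)
  have r : (C.ρ (s * e)).1 = sM * Te (1, 0) := by rw [rm, ep, h.hs]
  set x0 := s * e * (s * e)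
  have h0 : x0 ∈ h.H0 := mem_of_eq (mul_mem (mul_mem (cmem h.Hs he) (h.MH h.s2)) he) (by simp only [x0]; group)
  have r0 : (C.ρ x0).1 = Te (1, 1) := by rw [rm, r, ds_f.2.2.2.2.2.2.2.2.1]
  have m0 := h.sq _ h0.1
  have l0 : L0 (C.c (x0 * x0)) := (ds_v _).2.2.1 (by rw [← r, ← C.c_conj _ _ m0]; congr 1; simp only [x0]; group)
  have k : ∀ x ∈ h.H0, (C.ρ x).1 = Te (1, 1) → L0 (C.c (x * x)) := fun x hx a => by
    have m := h.HQ (mul_mem (inv_mem h0) hx) (by rw [rm, riT r0, a, Te_mul]; rfl)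
    have m' := cmem (nor_of x0⁻¹) m
    rw [show x * x = x0 * x0 * (x0⁻¹ * x * (x0⁻¹ * x)⁻¹ * (x0⁻¹ * (x0⁻¹ * x) * x0⁻¹⁻¹) * (x0⁻¹ * x)) by group,
      mul_inv_cancel, one_mul, C.c_mul _ m0 _ (mul_mem m' m), C.c_mul _ m' _ m, C.c_conj _ _ m, riT r0, add_comm (_ *ᵥ _)]
    exact L0_add _ _ l0 (Te_v _ _).1
  obtain ⟨p, a⟩ := hx.1
  have m := h.sq _ hx.1
  rcases (Te_f p).2.2.2.2.2.2.2.2 with rfl | rfl | r | r
  · rw [(C.c_eq_zero _ m).2 (el x (h.HQ hx a))]; exact ⟨rfl, rfl⟩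
  · exact k x hx a
  · have := k _ (cmem h.Hd hx) (r ▸ rd1 h.hd a)
    rw [conj_mul, C.c_conj _ _ m, h.hd] at this
    exact (ds_v _).2.2.2.1 this
  · have := k _ (cmem' h.Hd hx) (r ▸ rd2 h.hd a)
    rw [show d⁻¹ * x * d * (d⁻¹ * x * d) = d⁻¹ * (x * x) * d⁻¹⁻¹ by group, C.c_conj _ _ m, rdi h.hd] at this
    exact (ds_v _).2.2.2.2.1 this

end PS

end R4
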