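import Cfsg.Agent.R4.G1

/-! Two sections of rank five. -/

set_option autoImplicit false
set_option linter.unusedVariables false
set_option linter.unusedSectionVars false

namespace R4

open Cfsg Subgroup FT H4 H5 GW L M4 MW
open scoped Matrix

variable {G : Type*} [Group G] [Finite G] {Q W N M H K Y A Z : Subgroup G} {x y z d s g : G}

theorem ceq (C : H8.Coord M Z 3) (hx : x ∈ M) (hy : y ∈ M) : x⁻¹ * y ∈ Z ↔ C.c y = C.c x := by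
  rw [← C.c_eq_zero _ (mul_mem (inv_mem hx) hy), C.c_mul _ (inv_mem hx) _ hy, c_inv C hx]
  exact ⟨fun e => by rw [← add_zero (C.c y), ← e, add_comm (C.c x), ← add_assoc, (ds_v _).2.2.2.2.2.1, zero_add],
    fun e => by rw [e, (ds_v _).2.2.2.2.2.1]⟩

theorem ccm [M.Normal] (C : H8.Coord M Z 3) (g : G) (hx : x ∈ M) :
    C.c (x⁻¹ * (g * x * g⁻¹)) = C.c x + (C.ρ g).1 *ᵥ C.c x := by
  rw [C.c_mul _ (inv_mem hx) _ (cmem (nor_of g) hx), c_inv C hx, C.c_conj _ _ hx]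

theorem cfx [M.Normal] (C : H8.Coord M Z 3) (hx : x ∈ M) (e : (C.ρ g).1 *ᵥ C.c x = C.c x) :
    x⁻¹ * (g * x * g⁻¹) ∈ Z := (ceq C hx (cmem (nor_of g) hx)).2 (by rw [C.c_conj _ _ hx, e])

/-- the preimage of the fixed line -/
def Lc (C : H8.Coord M Z 3) : Subgroup G where
  carrier := {m | m ∈ M ∧ L0 (C.c m)}
  one_mem' := ⟨one_mem _, by rw [c_one]; exact ⟨rfl, rfl⟩⟩
  mul_mem' := fun a b => ⟨mul_mem a.1 b.1, by rw [C.c_mul _ a.1 _ b.1]; exact L0_add _ _ a.2 b.2⟩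
  inv_mem' := fun a => ⟨inv_mem a.1, by rw [c_inv C a.1]; exact a.2⟩

theorem ZL (C : H8.Coord M Z 3) (l : Z ≤ M) : Z ≤ Lc C := fun x hx =>
  ⟨l hx, by rw [(C.c_eq_zero x (l hx)).2 hx]; exact ⟨rfl, rfl⟩⟩

theorem Lc_nor [M.Normal] (C : H8.Coord M Z 3) (e : ∀ v, L0 v → (C.ρ g).1 *ᵥ v = v) : g ∈ Nor (Lc C) :=
  mnor fun x hx => ⟨cmem (nor_of g) hx.1, by rw [C.c_conj _ _ hx.1, e _ hx.2]; exact hx.2⟩

theorem Rv {ρ : G →* SL3} (h : x ∈ Rr ρ) (v : V3) (e : L0 v) : (ρ x).1 *ᵥ v = v :=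
  let ⟨p, a⟩ := h; a ▸ (Te_v p v).2.2.1 e

theorem odd3 (h : d ^ 3 = 1) : Odd (orderOf d) := (by norm_num : Odd 3).of_dvd_nat (orderOf_dvd_of_pow_eq_one h)

theorem PS.nM' {C : H8.Coord M Z 3} (h : PS C Q d s) {p : P2} (e : (C.ρ x).1 = Te p) (r : p ≠ 0) : x ∉ M :=
  fun m => r ((Te_f p).2.2.2.2.1 (e ▸ r1.2 (h.k.ge (h.l m))))

theorem PS.fin {C : H8.Coord M Z 3} (h : PS C Q d s) (sr : SR G) (p : IsPGroup 2 Q) (ab : Q ≤ Cen Q)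
    (zc : ∀ z ∈ Z, ∀ g, g * z = z * g) (el : ∀ m ∈ M, m * m ∈ Z) (l : Z ≤ M)
    (om : ∀ q ∈ Q, ∀ g, q⁻¹ * (g * q * g⁻¹) * (q⁻¹ * (g * q * g⁻¹)) = 1) (s1 : ∀ m ∈ M, m * m ∈ N)
    (s2 : ∀ m ∈ M, m * m = 1 → m ∈ N) (s3 : ¬ Z ≤ N) : False := by
  have := h.nM
  have yd : Lc C ≤ Cen1 d := fun y hy =>
    have e := cfx C hy.1 (h.hd ▸ ((ds_v _).1 hy.2).1)
    fix2 (odd3 h.d3) (p.to_le (l.trans h.l)) e (c1.2 (zc _ e d).symm)
  have yc : h.H0 ≤ Cen (Lc C) := fun x hx => cen.2 fun y hy =>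
    have e := cfx C hy.1 (Rv hx.1 _ hy.2)
    c1.1 (trc (yd hy) _ (by group) (om y (h.l hy.1) x) (c1.2 (zc _ e d).symm) (c1.2 (zc _ e _).symm)
      (c1.2 (cen.1 (ab (h.l hy.1)) _ (h.l hx.2))))
  have e1 := sr (Lc C ⊓ N) h.H0 (fun x hx => h.MH hx.1.1) (cnor (yc.trans (centralizer_le inf_le_left))) fun x hx =>
    have a : x * x ∈ Lc C := ⟨h.sq x hx.1, h.sqL el hx⟩
    sqN (yc hx) (yc (cmem h.Hd hx)) (yc (cmem' h.Hd hx)) a (by rw [conj_mul, c1'.1 (c1s.1 (yd a))])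
      ((show _ = d⁻¹ * (x * x) * d⁻¹⁻¹ by group).trans (c1'.1 (inv_mem (c1s.1 (yd a))))) ⟨hx.2, h.trL hx⟩
      (fun y hy => ⟨mul_mem hy hy, s1 y hy.1⟩) (fun y hy e => ⟨hy, s2 y hy.1 e⟩) inf_le_left
  have e2 := _root_.TW.half (M := Lc C ⊓ N) (S := Lc C) (lt_of_le_not_ge inf_le_left fun r =>
    s3 ((ZL C l).trans (r.trans inf_le_right)))
  obtain ⟨j, hj⟩ := pw (p.to_le h.l) (show Lc C ≤ M from fun x hx => hx.1)
  have e3 : 2 ≤ j := by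
    by_contra r
    obtain ⟨a, ha, a1⟩ := C.c_surj ![0, 1, 0]
    obtain ⟨b, hb, b1⟩ := C.c_surj ![0, 0, 1]
    have := (TW.idx2 (M := Lc C) (S := M) (fun x hx => hx.1) (by
      have : j ≤ 1 := by omega
      interval_cases j <;> omega) a ha b hb (fun r => absurd (a1 ▸ r.2) (by decide))
      fun r => absurd (b1 ▸ r.2) (by decide)).2
    rw [C.c_mul a ha b hb, a1, b1] at this
    exact absurd this (by decide)
  obtain ⟨a, ha, a1⟩ := h.exH (1, 0)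
  obtain ⟨b, hb, b1⟩ := h.exH (0, 1)
  have := Nat.pow_le_pow_right (n := 2) two_pos e3
  exact h.nM' (p := (1, 0) + (0, 1)) (by rw [rm, a1, b1, Te_mul]) (by decide)
    (TW.idx2 h.MH (by nlinarith) a ha b hb (h.nM' a1 (by decide)) (h.nM' b1 (by decide)))

theorem PS.core {C : H8.Coord A W 3} (h : PS C Q d s) (sr : SR G) (ab : A ≤ Cen A) (D : H8.Coord W ⊥ 3)
    (eρ : D.ρ = C.ρ) (cd : ∀ a ∈ A, C.c a = D.c (a * a)) (l : W ≤ A) (el : ∀ a ∈ A, a * a ∈ W) [W.Normal]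
    (c : Nat.card W = 8) : False := by
  have := h.nM
  have ca : ∀ a ∈ A, ∀ b ∈ A, a * b = b * a := fun a ha => cen.1 (ab ha)
  have el' : ∀ w ∈ W, w * w = 1 := fun w hw =>
    (D.c_eq_zero _ (mul_mem hw hw)).1 (by rw [← cd w (l hw), (C.c_eq_zero w (l hw)).2 hw])
  have fx : ∀ w ∈ W, ∀ g, (C.ρ g).1 *ᵥ D.c w = D.c w → g * w * g⁻¹ = w := fun w hw g e =>
    (inv_mul_eq_one.1 (cfx D hw (eρ ▸ e))).symm
  have nR : ∀ x ∈ h.H0, ∀ w ∈ Lc D, w ∈ Cen1 x := fun x hx w hw => c1s.1 (c1'.2 (fx w hw.1 x (Rv hx.1 _ hw.2)))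
  have nY : Lc D ≤ A ⊓ Cen1 d := fun w hw => ⟨l hw.1, c1s.1 (c1'.2 (fx w hw.1 d (h.hd ▸ ((ds_v _).1 hw.2).1)))⟩
  have yY : A ⊓ Cen1 d ≤ Lc C := fun y hy =>
    ⟨hy.1, (ds_v _).2.1 (by rw [← h.hd, ← C.c_conj _ _ hy.1, c1'.1 (c1s.1 hy.2)])⟩
  have sY : ∀ u ∈ Lc C, u * u ∈ Lc D := fun u hu => ⟨el u hu.1, cd u hu.1 ▸ hu.2⟩
  have nL : h.H0 ≤ Nor (Lc C) := fun x hx => Lc_nor C (Rv hx.1)
  have bL : ∀ a ∈ A, ∀ x ∈ h.H0, a⁻¹ * (x * a * x⁻¹) ∈ Lc C := fun a ha x ⟨⟨p, e⟩, _⟩ =>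
    ⟨mul_mem (inv_mem ha) (cmem (nor_of x) ha), by rw [ccm C x ha, e]; exact (Te_v p _).1⟩
  have k1 : ∀ u ∈ Lc C, ∀ x ∈ h.H0, u⁻¹ * (x * u * x⁻¹) ∈ Lc D := fun u hu x hx => by
    obtain ⟨p, e⟩ := hx.1
    by_cases r : p = 0
    · rw [ca x (h.HQ hx (r ▸ e)) u hu.1]; simp
    obtain ⟨v, hv⟩ := (Te_v p _).2.2.2 r hu.2
    obtain ⟨a, ha, rfl⟩ := C.c_surj v
    have m := bL a ha x hx
    have m1 := (ceq C m.1 hu.1).2 (by rw [ccm C x ha, e, hv])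
    have m2 : x * (a⁻¹ * (x * a * x⁻¹)) * x⁻¹ = (a⁻¹ * (x * a * x⁻¹))⁻¹ := by
      calc _ = x * a⁻¹ * x⁻¹ * (x * x * a) * (x * x)⁻¹ := by group
        _ = _ := by rw [ca _ (h.sq x hx.1) a ha]; simp [mul_assoc]
    generalize a⁻¹ * (x * a * x⁻¹) = b at m m1 m2
    have m3 : (b⁻¹ * u)⁻¹ * (x * (b⁻¹ * u) * x⁻¹) ∈ Lc D :=
      ⟨mul_mem (inv_mem m1) (cmem (nor_of x) m1), by rw [ccm D x m1, eρ, e]; exact (Te_v p _).1⟩
    refine mem_of_eq (mul_mem m3 (inv_mem (sY b m))) ?_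
    calc _ = u⁻¹ * b * (x * b * x⁻¹)⁻¹ * (x * u * x⁻¹ * (b * b)⁻¹) := by group
      _ = _ := by rw [m2, ca _ (cmem (nor_of x) hu.1) _ (inv_mem (mul_mem m.1 m.1))]; simp [mul_assoc]
  have k3 : ∀ x ∈ h.H0, tr d x ∈ A ⊓ Cen1 d := fun x hx =>
    have e : (tr d x)⁻¹ * (d * tr d x * d⁻¹) ∈ Lc D :=
      mem_of_eq (k1 _ ⟨hx.2, h.trL hx⟩ _ (inv_mem hx)) (by rw [tr_d h.d3, inv_inv])
    ⟨hx.2, fix2 (odd3 h.d3) (el_two el') e.1 (nY e).2⟩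
  have k2 : h.H0 ≤ Cen (A ⊓ Cen1 d : Subgroup G) := fun x hx => cen.2 fun y hy =>
    have e := k1 y (yY hy) x hx
    c1.1 (trc hy.2 _ (by group) (el' _ e.1) (nY e).2 (nR _ (cmem h.Hd hx) _ e) (c1.2 (ca _ hy.1 _ hx.2)))
  have sH : ∀ x ∈ h.H0, x * x ∈ Lc C := fun x hx => ⟨h.sq x hx.1, h.sqL el hx⟩
  have cH : ∀ x ∈ h.H0, ∀ y ∈ h.H0, x * y * x⁻¹ * y⁻¹ ∈ Lc C := fun x hx y hy => Ph_le sH (cmP hx hy)
  have sm : ∀ z ∈ h.H0, ∀ u ∈ Lc C, u * z * (u * z) * (z * z)⁻¹ ∈ Lc D := fun z hz u hu =>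
    mem_of_eq (mul_mem (sY u hu) (k1 u hu z hz)) (by simp [mul_assoc])
  obtain ⟨y, hy, yp, y2⟩ : ∃ y ∈ h.H0, (C.ρ y).1 = Te (1, 1) ∧ y * y ∈ A ⊓ Cen1 d := by
    let ν : G → V3 := fun u => D.c (u⁻¹ * (d * u * d⁻¹))
    have nW : ∀ u ∈ Lc C, u⁻¹ * (d * u * d⁻¹) ∈ W := fun u hu => cfx C hu.1 (h.hd ▸ ((ds_v _).1 hu.2).1)
    have n1 : ∀ u ∈ Lc C, ∀ w ∈ Lc C, ν (u * w) = ν u + ν w := fun u hu w hw => by
      simp only [ν]
      rw [← D.c_mul _ (nW u hu) _ (nW w hw), ← mul_assoc (_ * _), ca _ (l (nW u hu)) _ (inv_mem hw.1)]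
      congr 1; group
    have n0 : ∀ u ∈ Lc C, ν u = 0 ↔ u ∈ A ⊓ Cen1 d := fun u hu => (D.c_eq_zero _ (nW u hu)).trans
      ⟨fun e => ⟨hu.1, c1s.1 (c1'.2 (inv_mul_eq_one.1 e).symm)⟩, fun e => by
        rw [c1'.1 (c1s.1 e.2), inv_mul_cancel]; exact one_mem _⟩
    have n2 : ∀ u ∈ Lc C, ν (d⁻¹ * u * d) = (dM * dM) *ᵥ ν u ∧ ν (d * u * d⁻¹) = dM *ᵥ ν u := fun u hu => by
      simp only [ν]
      rw [← rdi h.hd, ← h.hd, ← eρ, ← D.c_conj _ _ (nW u hu), ← D.c_conj _ _ (nW u hu)]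
      constructor <;> congr 1 <;> group
    have fix : ∀ z ∈ h.H0, s * z * s⁻¹ * z⁻¹ ∈ Lc C → ν (z * z) = 0 ∨ ν (z * z) = om := fun z hz e => by
      have m := nW _ (sH z hz)
      refine (ds_v _).2.2.2.2.2.2 ?_ ?_
      · simp only [ν]
        rw [← rdi h.hd, ← h.hd, ← eρ, ← D.c_conj _ _ m, ← D.c_conj _ _ m, ← D.c_mul _ m _ (cmem (nor_of _) m),
          ← D.c_mul _ (mul_mem m (cmem (nor_of _) m)) _ (cmem (nor_of _) m), ← c_one D]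
        congr 1
        calc _ = (z * z)⁻¹ * (d * d) * (z * z) * (d * d)⁻¹ * d⁻¹ * (z * z)⁻¹ * d * (z * z) := by simp [mul_assoc]
          _ = _ := by rw [dd h.d3]; group
      · have e1 := sm z hz _ e
        have e2 := n1 _ (yY (nY e1)) _ (sH z hz)
        rw [(n0 _ (yY (nY e1))).2 (nY e1), zero_add] at e2
        refine Eq.trans ?_ e2
        simp only [ν]
        rw [← rdi h.hd, ← h.hs, ← rm, ← eρ, ← c_inv D m, ← D.c_conj _ _ (inv_mem m)]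
        congr 1
        have e : d⁻¹ = s⁻¹ * d * s := inv_injective (by
          calc _ = s⁻¹ * (s * d * s⁻¹) * s := by group
            _ = _ := by rw [h.sd]; group)
        calc _ = s * (z * z)⁻¹ * d⁻¹ * (z * z) * d⁻¹⁻¹ * s⁻¹ := by simp [mul_assoc]
          _ = s * (z * z)⁻¹ * (s⁻¹ * d * s) * (z * z) * (s⁻¹ * d * s)⁻¹ * s⁻¹ := by rw [← e]
          _ = s * (z * z)⁻¹ * (s⁻¹ * d * s) * (z * z) * s⁻¹ * d⁻¹ := by group
          _ = _ := by simp [mul_assoc]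
    obtain ⟨x, hx, xc⟩ := C.c_surj ![0, 1, 1]
    obtain ⟨e, he, ep⟩ := h.exH (1, 0)
    have he' := cmem h.Hs he
    have hy := mul_mem he he'
    have ys : s * (e * (s * e * s⁻¹)) * s⁻¹ * (e * (s * e * s⁻¹))⁻¹ ∈ Lc C :=
      mem_of_eq (mul_mem (cH _ he' _ he) (cmem (nL (mul_mem he he')) (cH _ (inv_mem he) _ (h.MH h.s2))))
        (by simp [mul_assoc])
    have yp : (C.ρ (e * (s * e * s⁻¹))).1 = Te (1, 1) := by rw [rm, rs1 h.hs ep, ep, Te_mul]; rfl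
    generalize e * (s * e * s⁻¹) = y at hy ys yp
    have xp : ∀ x ∈ A, (C.ρ (x * y)).1 = Te (1, 1) := fun x hx => by
      rw [rm, yp, r1.2 (h.k.ge (h.l hx)), one_mul]
    have q : ∀ x ∈ A, ν (x * y * (x * y)) = ν (x * x) + ν (x⁻¹ * (y * x * y⁻¹)) + ν (y * y) := fun x hx => by
      rw [← n1 _ (ZL C l (el x hx)) _ (bL x hx y hy), ← n1 _ (mul_mem (ZL C l (el x hx)) (bL x hx y hy)) _ (sH y hy)]
      congr 1; group
    have qx : ν (x * x) = om := by simp only [ν]; rw [ccm D d (el x hx), ← cd x hx, xc, eρ, h.hd, om]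
    rcases fix y hy ys with r | r
    · exact ⟨y, hy, yp, (n0 _ (sH y hy)).1 r⟩
    have hxy := mul_mem (h.MH hx) hy
    have xs : s * x * s⁻¹ * x⁻¹ ∈ W := by
      have := cfx (g := s) C hx (by rw [h.hs, xc, ds_f.2.2.2.2.2.2.2.2.2.2])
      exact mem_of_eq (cmem (nor_of x) this) (by group)
    rcases fix _ hxy (mem_of_eq (mul_mem (ZL C l xs) (cmem (nL (h.MH hx)) ys)) (by group)) with r' | r'
    · exact ⟨_, hxy, xp x hx, (n0 _ (sH _ hxy)).1 r'⟩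
    have hx1 := cmem (nor_of d) hx
    have hxy1 := mul_mem (h.MH hx1) hy
    refine ⟨_, hxy1, xp _ hx1, (n0 _ (sH _ hxy1)).1 ?_⟩
    have b0 : ν (x⁻¹ * (y * x * y⁻¹)) = om := by
      have := q x hx
      rw [r, r', qx, add_comm om, add_assoc, (ds_v om).2.2.2.2.2.1, add_zero] at this
      exact this.symm
    have t := (n0 _ (yY (k3 _ hxy))).2 (k3 _ hxy)
    have u1 := yY (k3 _ (h.MH hx))
    have u2 := bL _ hx1 y hy
    have u3 := cmem' (Lc_nor C fun v e => h.hd ▸ ((ds_v v).1 e).1) (bL x hx y hy)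
    have u4 := yY (k3 _ hy)
    rw [show tr d (x * y) = tr d x * ((d * x * d⁻¹)⁻¹ * (y * (d * x * d⁻¹) * y⁻¹)) *
      (d⁻¹ * (x⁻¹ * (y * x * y⁻¹)) * d) * tr d y from ?_, n1 _ (mul_mem (mul_mem u1 u2) u3) _ u4,
      n1 _ (mul_mem u1 u2) _ u3, n1 _ u1 _ u2, (n0 _ u1).2 (k3 _ (h.MH hx)), (n0 _ u4).2 (k3 _ hy),
      (n2 _ (bL x hx y hy)).1, b0, zero_add, add_zero] at t
    · rw [q _ hx1, r, conj_mul, (n2 _ (ZL C l (el x hx))).2, qx, eq_neg_of_add_eq_zero_left t,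
        ← ds_f.2.2.2.2.2.2.2.2.2.1]
      rw [add_comm, add_assoc]; congr 2; ext i; simp
    · have e1 : tr d y * (d⁻¹ * y⁻¹ * d * (d⁻¹ * x * d) * (d⁻¹ * y * d)) * (tr d y)⁻¹ =
          d⁻¹ * y⁻¹ * d * (d⁻¹ * x * d) * (d⁻¹ * y * d) := by
        rw [ca _ hy.2 _ (mem_of_eq (cmem' (nor_of d) (cmem' (nor_of y) hx)) (by group)), mul_inv_cancel_right]
      have e2 : y⁻¹ * x * y = y * x * y⁻¹ := by
        calc _ = y * ((y * y)⁻¹ * x * (y * y)) * y⁻¹ := by simp [mul_assoc]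
          _ = _ := by rw [mul_assoc _ x, ca x hx _ (h.sq y hy.1), inv_mul_cancel_left]
      calc _ = x * (y * (d * x * d⁻¹) * y⁻¹) * (tr d y * (d⁻¹ * y⁻¹ * d * (d⁻¹ * x * d) * (d⁻¹ * y * d)) * (tr d y)⁻¹) *
            tr d y := by simp [tr, mul_assoc]
        _ = x * (d * x * d⁻¹) * ((d * x * d⁻¹)⁻¹ * (y * (d * x * d⁻¹) * y⁻¹) * (d⁻¹ * x * d)) *
            (d⁻¹ * (x⁻¹ * (y⁻¹ * x * y)) * d) * tr d y := by rw [e1]; simp [mul_assoc]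
        _ = _ := by rw [ca _ u2.1 _ (cmem' (nor_of d) hx), e2]; simp [tr, mul_assoc]
  have hy1 := cmem h.Hd hy
  have hy2 := cmem' h.Hd hy
  have y1 : d * y * d⁻¹ * (d * y * d⁻¹) = y * y := by rw [conj_mul, c1'.1 (c1s.1 y2.2)]
  have y3 : d⁻¹ * y * d * (d⁻¹ * y * d) = y * y :=
    (show _ = d⁻¹ * (y * y) * d⁻¹⁻¹ by group).trans (c1'.1 (inv_mem (c1s.1 y2.2)))
  have s0 := sqN (k2 hy) (k2 hy1) (k2 hy2) y2 y1 y3 (k3 y hy) (fun u hu => sY u (yY hu)) (fun u hu e =>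
    have m := (C.c_eq_zero u hu.1).1 (by rw [cd u hu.1, e, c_one])
    ⟨m, (ds_v _).2.1 (by rw [← h.hd, ← eρ, ← D.c_conj _ _ m, c1'.1 (c1s.1 hu.2)])⟩) nY
  have sm' : ∀ x, ∀ z ∈ h.H0, x * z ∈ Lc C → z * z ∈ Lc D → x * x ∈ Lc D := fun x z hz e r =>
    mem_of_eq (mul_mem (sm _ (inv_mem hz) _ e) (inv_mem r)) (by simp [mul_assoc])
  have LH : Lc C ≤ h.H0 := fun x hx => h.MH hx.1
  have KH : Lc C ⊔ zpowers (d * y * d⁻¹) ≤ h.H0 := sup_le LH (zpowers_le.2 hy1)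
  have n1 := nor_of_le (K := Lc C ⊔ zpowers (d * y * d⁻¹)) le_sup_left (fun x hx => cH x (KH hx)) hy
  have p1 := rd1 h.hd yp
  have e1 := sr (Lc D) (Lc C ⊔ zpowers (d * y * d⁻¹) ⊔ zpowers y) ((nY.trans yY).trans (le_sup_left.trans le_sup_left))
    ((sup_le KH (zpowers_le.2 hy)).trans fun x hx => mcnor (cen_iff_le.2 (nR x hx))) fun x hx => by
      rcases (SF.mem_sup_zp n1 (mem_sup_left (sH y hy))).1 hx with r | r <;>
        rcases (SF.mem_sup_zp (nL hy1) (sH _ hy1)).1 r with r | r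
      · exact sY x r
      · exact sm' x _ hy1 r (y1 ▸ s0)
      · exact sm' x _ hy r s0
      · exact sm' x _ (inv_mem hy2) (mem_of_eq (mul_mem r (cmem (nL hy2) (inv_mem (yY (k3 y hy)))))
          (by simp [tr, mul_assoc])) (by rw [← mul_inv_rev, y3]; exact inv_mem s0)
  rw [SF.card_sup_zp n1 (mem_sup_left (sH y hy)) fun r => by
    rcases (SF.mem_sup_zp (nL hy1) (sH _ hy1)).1 r with r | r
    exacts [h.nM' yp (by decide) r.1, h.nM' (by rw [rm, yp, p1, Te_mul]) (by decide) r.1],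
    SF.card_sup_zp (nL hy1) (sH _ hy1) fun r => h.nM' p1 (by decide) r.1] at e1
  obtain ⟨a, ha, a1⟩ := C.c_surj ![1, 0, 0]
  have e2 := _root_.TW.half (M := W) (S := Lc C) (lt_of_le_not_ge (ZL C l) fun r =>
    absurd (a1 ▸ (C.c_eq_zero a ha).2 (r ⟨ha, a1 ▸ ⟨rfl, rfl⟩⟩)) (by decide))
  have e3 := card_le_of_le (show Lc D ≤ zpowers (a * a) from fun w hw => by
    rcases ((ds_v _).1 hw.2).2.2 with r | r
    · rw [mem_bot.1 ((D.c_eq_zero w hw.1).1 r)]; exact one_mem _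
    · rw [← inv_mul_eq_one.1 ((ceq D (el a ha) hw.1).2 (by rw [r, ← cd a ha, a1]))]; exact mem_zpowers _)
  have := orderOf_le_of_pow_eq_one two_pos ((pow_two _).trans (el' _ (el a ha)))
  rw [Nat.card_zpowers] at e3
  omega

end R4
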