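import Cfsg.Agent.R4.G2

/-! Groups with `G / Q ≅ L₃(2)`: general facts and the central case. -/

set_option autoImplicit false
set_option linter.unusedVariables false
set_option linter.unusedSectionVars false

namespace R4

open Cfsg Subgroup FT H4 H5 GW L M4 MW
open scoped Matrix

variable {G : Type*} [Group G] [Finite G] {Q W N M H K Y A Z P : Subgroup G} {x y z d s g : G}

structure F7 (Q : Subgroup G) (g : G) : Prop where
  sr : SR G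
  nQ : Q.Normal
  pQ : IsPGroup 2 Q
  g7 : g ^ 7 = 1
  gn : ∃ q ∈ Q, q⁻¹ * (g * q * g⁻¹) ∉ Ph Q
  sm : ∀ K : Subgroup G, K.Normal → Q ≤ K → K ≤ Q ∨ K = ⊤
  cd : Nat.card G = 168 * Nat.card Q

theorem sev2 (hg : g ^ 7 = 1) (hM : IsPGroup 2 M) (l : N ≤ M) (h : M ≤ Nor N) (n : g ∈ Nor M) (n' : g ∈ Nor N)
    (c : Nat.card M ≤ 16 * Nat.card N) (hx : x ∈ M) (e : x⁻¹ * (g * x * g⁻¹) ∉ N) :
    Nat.card M = 8 * Nat.card (Fx M N h g) ∧ Nat.card (Fx M N h g) ≤ 2 * Nat.card N ∧ 8 * Nat.card N ≤ Nat.card M := by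
  have : Fact (Nat.Prime 7) := ⟨by norm_num⟩
  obtain ⟨i, j, h1, h2, h3, h4, h5⟩ := idx_Fx (by norm_num) hg hM l h n n' c hx e
  obtain rfl : j = 3 := by
    have : j ≤ 4 := by omega
    interval_cases j <;> simp at h3 ⊢
  have : i ≤ 1 := by omega
  interval_cases i <;> omega

theorem Ph_bot (p : IsPGroup 2 N) (h : N ≤ Ph N) : N = ⊥ := by
  by_contra r
  exact (H7.phiS_lt p r).not_ge (h.trans (Ph_le fun x hx => mem_sup_right (subset_closure ⟨x, hx, (sq x).symm⟩)))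

theorem card_co (C : H8.Coord M N 3) (l : N ≤ M) : Nat.card M = 8 * Nat.card N := by
  let φ : M →* Multiplicative V3 := MonoidHom.mk' (fun x => Multiplicative.ofAdd (C.c x))
    fun x y => by rw [coe_mul, C.c_mul _ x.2 _ y.2, ofAdd_add]
  have k : φ.ker = N.subgroupOf M := ext fun x => C.c_eq_zero _ x.2
  have e := card_eq_card_quotient_mul_card_subgroup φ.ker
  rw [Nat.card_congr (QuotientGroup.quotientKerEquivOfSurjective φ fun v =>
    let ⟨x, hx, e⟩ := C.c_surj v.toAdd; ⟨⟨x, hx⟩, congrArg Multiplicative.ofAdd e⟩).toEquiv, k,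
    Nat.card_congr (subgroupOfEquivOfLe l).toEquiv] at e
  simpa using e

namespace F7
variable (h : F7 Q g)
include h

theorem o : Odd (orderOf g) := (by norm_num : Odd 7).of_dvd_nat (orderOf_dvd_of_pow_eq_one h.g7)

theorem gQ : g ∉ Q := fun e => let ⟨q, hq, r⟩ := h.gn; r (mem_of_eq (cmP (inv_mem hq) e) (by group))

theorem cenG [N.Normal] (l : N ≤ Cen Q) (l' : N ≤ Cen1 g) (hx : x ∈ N) (k : G) : k * x = x * k :=
  cen.1 (((h.sm _ inferInstance (le_cen_symm l)).resolve_left fun r => h.gQ (r (cen_iff_le.2 l'))).ge (mem_top k)) x hx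

theorem crd [M.Normal] (C : H8.Coord M N 3) (e : ∀ m ∈ M, ∀ q ∈ Q, m * q * m⁻¹ * q⁻¹ ∈ N) (hx : x ∈ M)
    (r : x⁻¹ * (g * x * g⁻¹) ∉ N) : C.ρ.ker = Q ∧ Function.Surjective C.ρ := by
  have l : Q ≤ C.ρ.ker := fun q hq => C.mem_ker.2 fun m hm => e m hm q hq
  have k := le_antisymm ((h.sm _ inferInstance l).resolve_right fun s =>
    r (mem_of_eq (C.mem_ker.1 (s.ge (mem_top g)) _ (inv_mem hx)) (by rw [commutatorElement_def]; group))) l
  refine ⟨k, MonoidHom.range_eq_top.1 (SF.eq_of_le_card le_top ?_)⟩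
  have := C.ρ.ker.card_mul_index
  rw [index_ker, k, h.cd, mul_comm] at this
  rw [card_top, card_SL3, Nat.eq_of_mul_eq_mul_right Nat.card_pos this]

theorem quot [W.Normal] (l : W ≤ Q) (e : W ≤ Ph Q ∨ W ≤ Cen1 g) :
    F7 (Q.map (QuotientGroup.mk' W)) (QuotientGroup.mk' W g) := by
  have s := QuotientGroup.mk'_surjective W
  have := h.nQ
  refine ⟨h.sr.quot s, h.nQ.map _ s, h.pQ.map _, by rw [← map_pow, h.g7, map_one], ?_, fun K a b =>
    (h.sm _ (a.comap _) (map_le_iff_le_comap.1 b)).imp (fun r => (map_comap_eq_self_of_surjective s K).ge.trans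
      (map_mono r)) fun r => comap_injective s r, Nat.eq_of_mul_eq_mul_right (Nat.card_pos (α := W)) (by
      rw [← card_eq_card_quotient_mul_card_subgroup, h.cd, card_mapq l, mul_assoc])⟩
  obtain ⟨q, hq, r⟩ := h.gn
  refine ⟨_, mem_map_of_mem _ hq, fun t => r ?_⟩
  have t : q⁻¹ * (g * q * g⁻¹) ∈ Ph Q ⊔ W := (mem_mapq le_sup_right).1 (by
    rw [Ph_map] at t; exact map_mono le_sup_left (by simpa only [map_mul, map_inv] using t))
  rcases e with e | e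
  · exact sup_le le_rfl e t
  obtain ⟨n, hn, c⟩ := ca1 h.o (h.pQ.to_le (sup_le PhQ l)) (nor_of g) t
  obtain ⟨a, ha, w, hw, rfl⟩ := mem_sup_of_normal_right.1 hn
  refine mem_of_eq (mul_mem ha (inv_mem (cmem (nor_of g) ha))) ?_
  calc _ = a * w * (g * a * g⁻¹ * w)⁻¹ := by group
    _ = q⁻¹ * (g * (q * (a * w)) * g⁻¹) * (g * a * g⁻¹ * (g * w * g⁻¹))⁻¹ := by
      rw [c1'.1 (c1s.1 c), c1'.1 (c1s.1 (e hw))]; group
    _ = _ := by group

theorem V (l : Ph Q ≤ Cen1 g) : Nat.card Q = 8 * Nat.card ↥(Q ⊓ Cen1 g) ∧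
    Nat.card ↥(Q ⊓ Cen1 g) ≤ 2 * Nat.card (Ph Q) := by
  have := h.nQ
  obtain ⟨q, hq, r⟩ := h.gn
  have n : Q ≤ Nor (Ph Q) := fun g _ => nor_of g
  have := sev2 h.g7 h.pQ PhQ n (nor_of g) (nor_of g) h.sr.Ph hq r
  rw [show Fx Q (Ph Q) n g = Q ⊓ Cen1 g from le_antisymm (le_inf Fx_le
    (cstep h.o (h.pQ.to_le PhQ) (nor_of g) l fun x hx => hx.2)) (cen_Fx n)] at this
  exact ⟨this.1, this.2.1⟩

theorem irr (c : Nat.card Q = 8 * Nat.card ↥(Q ⊓ Cen1 g)) (l : Q ⊓ Cen1 g ≤ M) (l' : M ≤ Q) (n : g ∈ Nor M) :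
    M ≤ Q ⊓ Cen1 g ∨ Q ≤ M := by
  have := h.nQ
  have : Fact (Nat.Prime 7) := ⟨by norm_num⟩
  obtain ⟨j, hj⟩ := pw (h.pQ.to_le l') l
  have e := idx_mod (by norm_num) h.g7 (h.pQ.to_le l') l n (minf (nor_of g) (mc1 (c1.2 rfl)))
    (inf_le_inf_right _ l') hj
  have c' := card_le_of_le l'
  rw [c, hj] at c'
  have : j ≤ 3 := (Nat.pow_le_pow_iff_right (a := 2) (m := 3) (by norm_num)).1
    (Nat.le_of_mul_le_mul_right c' Nat.card_pos)
  interval_cases j <;> simp at e hj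
  exacts [Or.inl (SF.eq_of_le_card l hj.le).ge, Or.inr (SF.eq_of_le_card l' (c.trans hj.symm).le).ge]

theorem cent (wc : W ≤ Cen Q) (el : ∀ w ∈ W, w * w = 1) (e : ∀ x ∈ Q, ∀ y ∈ Q, x * y * x⁻¹ * y⁻¹ ∈ W) :
    Ph Q ≤ Cen Q := Ph_le fun x hx => cen.2 fun y hy =>
  sq_cm rfl (cen.1 (wc (e x hx y hy)) x hx) (el _ (e x hx y hy))

theorem ab (c : Nat.card W ≤ 2) (wc : W ≤ Cen Q) (el : ∀ w ∈ W, w * w = 1)
    (e : ∀ x ∈ Q, ∀ y ∈ Q, x * y * x⁻¹ * y⁻¹ ∈ W) (l : Ph Q ≤ Cen1 g) : Q ≤ Cen Q := by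
  have := h.nQ
  have lc := h.cent wc el e
  obtain ⟨c1, c2⟩ := h.V l
  have lC : Ph Q ≤ Q ⊓ Cen1 g := le_inf PhQ l
  have p : 0 < Nat.card ↥(Q ⊓ Cen1 g) := Nat.card_pos
  have ix : ∀ K ≤ Q, ∀ x ∈ Q, Nat.card K ≤ 2 * Nat.card ↥(K ⊓ Cen1 x) := fun K l x hx =>
    (idxW fun t ht => e t (l ht) x hx).trans (Nat.mul_le_mul_right _ c)
  have cc : Q ⊓ Cen1 g ≤ Cen Q := fun x hx => cen_iff_le.2 (by
    rcases h.irr c1 (M := Q ⊓ Cen1 x) (fun y hy => ⟨hy.1, by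
      by_cases a : x ∈ Ph Q
      · exact cen_iff_le.1 (lc a) hy.1
      by_cases b : y ∈ Ph Q
      · exact c1s.1 (cen_iff_le.1 (lc b) hx.1)
      exact c1s.1 ((mul_mem_cancel_right (GW.c1.2 rfl)).1 (c1s.1 ((cen_iff_le.1 (lc (TW.idx2 lC c2 x hx y hy a b))) hy.1)))⟩)
      inf_le_left (minf (nor_of g) (mc1 (c1s.1 hx.2))) with r | r
    · have := card_le_of_le r
      have := ix Q le_rfl x hx.1
      omega
    · exact r.trans inf_le_right)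
  rcases h.irr c1 (M := Q ⊓ Cen Q) (le_inf inf_le_left cc) inf_le_left (nor_of g) with r | r
  · refine fun x hx => cen.2 fun y hy => by_contra fun xy => ?_
    have i1 := ix Q le_rfl x hx
    have i2 := ix (Q ⊓ Cen1 x) inf_le_left y hy
    obtain ⟨z, ⟨⟨hz, zx⟩, zy⟩, z1⟩ := SF.exists_not_mem (N := Q ⊓ Cen1 g) (U := Q ⊓ Cen1 x ⊓ Cen1 y) (by omega)
    have i3 := _root_.TW.half (M := Q ⊓ Cen1 z) (S := Q) (lt_of_le_not_ge inf_le_left fun s =>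
      z1 (r ⟨hz, cen_iff_le.2 (s.trans inf_le_right)⟩))
    have k : ∀ u ∈ Q ⊓ Cen1 g, ∀ v ∈ Q, u ∈ Cen1 v := fun u hu v hv => c1s.1 (cen_iff_le.1 (cc hu) hv)
    have zx : z ∈ Cen1 x := zx
    have zy : z ∈ Cen1 y := zy
    have x0 : x ∈ Cen1 x := GW.c1.2 rfl
    have y0 : y ∈ Cen1 y := GW.c1.2 rfl
    have xy1 : x ∉ Cen1 y := fun s => xy (GW.c1.1 s)
    have xy2 : y ∉ Cen1 x := fun s => xy1 (c1s.1 s)
    rcases cov4 (H := Q ⊓ Cen1 g) (K := Q ⊓ Cen1 z) (fun u hu => ⟨hu.1, k u hu z hz⟩) (by omega)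
      ⟨hx, c1s.1 zx⟩ ⟨hy, c1s.1 zy⟩ (mul_mem ⟨hx, c1s.1 zx⟩ ⟨hy, c1s.1 zy⟩) (fun s => xy1 (k _ s y hy))
      (fun s => xy2 (k _ s x hx)) (fun s => xy1 ((mul_mem_cancel_right y0).1 (k _ s y hy)))
      (fun s => xy2 ((mul_mem_cancel_left (inv_mem x0)).1 (k _ s x hx)))
      (fun s => xy2 (by simpa using k _ s x hx))
      (fun s => xy1 ((mul_mem_cancel_right y0).1 ((mul_mem_cancel_left (inv_mem y0)).1 (k _ s y hy))))
      ⟨hz, GW.c1.2 rfl⟩ with s | s | s | s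
    exacts [z1 s, xy1 (inv_mem_iff.1 ((mul_mem_cancel_right zy).1 (k _ s y hy))),
      xy2 (inv_mem_iff.1 ((mul_mem_cancel_right zx).1 (k _ s x hx))),
      xy2 ((mul_mem_cancel_left x0).1 (inv_mem_iff.1 ((mul_mem_cancel_right zx).1 (k _ s x hx))))]
  · exact r.trans inf_le_right

end F7

end R4
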