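import Cfsg.Agent.R4.G3

/-! Groups with `G / Q ≅ L₃(2)`: two noncentral chief factors, first part. -/

set_option autoImplicit false
set_option linter.unusedVariables false
set_option linter.unusedSectionVars false

namespace R4

open Cfsg Subgroup FT H4 H5 GW L M4 MW
open scoped Matrix

variable {G : Type*} [Group G] [Finite G] {Q W N M H K Y A Z P : Subgroup G} {x y z d s g w x' y' : G}

structure CX (Q W P : Subgroup G) (g : G) (D : H8.Coord W ⊥ 3) : Prop extends F7 Q g where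
  nW : W.Normal
  nP : P.Normal
  WL : W ≤ Ph Q
  wc : W ≤ Cen Q
  el : ∀ w ∈ W, w * w = 1
  c8 : Nat.card W = 8
  nc : ∀ z ∈ Q, (∀ k, k * z = z * k) → z = 1
  cm : ∀ x ∈ Q, ∀ y ∈ Q, x * y * x⁻¹ * y⁻¹ ∈ W
  lg : ∀ l ∈ Ph Q, l⁻¹ * (g * l * g⁻¹) ∈ W
  wg : W ⊓ Cen1 g ≤ ⊥
  k : D.ρ.ker = Q
  sj : Function.Surjective D.ρ
  mP : ∀ {x}, x ∈ P ↔ x ∈ Q ∧ x * x ∈ W

theorem sq_ins {a b e : G} (h1 : e ∈ Cen1 a) (h2 : e ∈ Cen1 b) (e2 : e * e = 1) :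
    a * e * b * (a * e * b) = a * b * (a * b) := by
  calc _ = a * (e * b) * (a * e) * b := by simp [mul_assoc]
    _ = a * b * (e * e) * (a * b) := by rw [c1.1 h2, ← c1.1 h1]; simp [mul_assoc]
    _ = _ := by rw [e2, mul_one]

namespace CX
variable {D : H8.Coord W ⊥ 3} (h : CX Q W P g D)
include h

theorem PQ : P ≤ Q := fun x hx => (h.mP.1 hx).1
theorem sP (hx : x ∈ P) : x * x ∈ W := (h.mP.1 hx).2
theorem wq (hw : w ∈ W) (hx : x ∈ Q) : w ∈ Cen1 x := c1.2 (cen.1 (h.wc hw) x hx)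
theorem lc : Ph Q ≤ Cen Q := h.toF7.cent h.wc h.el h.cm

theorem cong (hx : x ∈ Q) (e : x⁻¹ * y ∈ W) : y * y = x * x := by
  simpa using sq_ins (b := 1) (h.wq e hx) (c1.2 (by simp)) (h.el _ e)

theorem lel : ∀ l ∈ Ph Q, l * l = 1 := fun l hl => by
  have := h.nQ
  have := h.nW
  refine h.nc _ (PhQ (mul_mem hl hl)) (h.cenG (N := Ph (Ph Q)) (PhQ.trans h.lc) (Ph_le fun x hx => ?_) (sqP hl))
  obtain ⟨n, hn, c⟩ := ca1 h.o (el_two h.el) (nor_of g) (h.lg x hx)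
  exact mem_of_eq (mul_mem c c) (h.cong (PhQ hx) (by simpa))

theorem LP : Ph Q ≤ P := fun x hx => h.mP.2 ⟨PhQ hx, h.lel x hx ▸ one_mem _⟩
theorem WP : W ≤ P := h.WL.trans h.LP

theorem cP : Nat.card P ≤ 128 :=
  have := h.nW
  (h.sr W P h.WP (fun g _ => nor_of g) fun x => h.sP).trans (by rw [h.c8])

theorem cL : Nat.card (Ph Q) ≤ 2 * Nat.card W := by
  have := h.sr ⊥ _ bot_le (fun g _ => nor_of g) h.lel
  rw [card_bot] at this; rw [h.c8]; omega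

theorem exP : ∃ x ∈ P, x * x ≠ 1 := by
  by_contra! r
  have := h.nQ
  have := h.nW
  have e1 := h.sr ⊥ _ bot_le (fun g _ => nor_of g) r
  have e2 := TW.idx2' h.PQ fun x hx y hy a b => h.mP.2 ⟨mul_mem hx hy, mem_of_eq (mul_mem (cmem (nor_of x)
    (h.cm y hy x hx)) (TW.idx2 h.WL h.cL _ (sqP hx) _ (sqP hy) (fun r => a (h.mP.2 ⟨hx, r⟩))
      fun r => b (h.mP.2 ⟨hy, r⟩))) (by simp [mul_assoc])⟩
  obtain ⟨q, hq, t⟩ := h.gn
  have e3 := (sev2 h.g7 h.pQ PhQ (fun g _ => nor_of g) (nor_of g) (nor_of g) h.sr.Ph hq t).2.2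
  have := card_le_of_le h.WL
  rw [card_bot, h.c8] at *
  omega

theorem inj (hw : w ∈ W) (hx : x ∈ W) (e : D.c w = D.c x) : w = x := (inv_mul_eq_one.1 ((ceq D hx hw).2 e)).symm

theorem act (B : M3) (e : det3 B = 1) : ∃ k, ∀ w ∈ W, D.c (k * w * k⁻¹) = B *ᵥ D.c w :=
  let ⟨k, r⟩ := h.sj (mkS B e); ⟨k, fun w hw => by rw [D.c_conj k w hw, r]; rfl⟩

theorem ne0 (hw : w ∈ W) (e : w ≠ 1) : D.c w ≠ 0 := mt (D.c_eq_zero w hw).1 e

theorem t1 (hx : x ∈ W) (hy : y ∈ W) (x1 : x ≠ 1) (y1 : y ≠ 1) (xy : x ≠ y) :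
    ∃ k, k * x * k⁻¹ = y ∧ k * y * k⁻¹ = x * y := by
  have := h.nW
  obtain ⟨B, a, b, c⟩ := T1 _ _ (h.ne0 hx x1) (h.ne0 hy y1) (mt (h.inj hx hy) xy)
  obtain ⟨k, e⟩ := h.act B a
  exact ⟨k, h.inj (cmem (nor_of k) hx) hy (by rw [e x hx, b]),
    h.inj (cmem (nor_of k) hy) (mul_mem hx hy) (by rw [e y hy, c, D.c_mul x hx y hy])⟩

theorem t0 (hx : x ∈ W) (hy : y ∈ W) (x1 : x ≠ 1) (y1 : y ≠ 1) : ∃ k, k * x * k⁻¹ = y := by
  by_cases e : x = y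
  exacts [⟨1, by simp [e]⟩, (h.t1 hx hy x1 y1 e).imp fun _ => And.left]

theorem t3 (hx : x ∈ W) (hy : y ∈ W) (hw : w ∈ W) (e : ∀ k, k * x * k⁻¹ = x → k * y * k⁻¹ = y → k * w * k⁻¹ = w) :
    w = 1 ∨ w = x ∨ w = y ∨ w = x * y := by
  have := h.nW
  by_contra! r
  obtain ⟨a, b, h1, h2, h3, h4⟩ := T3 _ _ _ (h.ne0 hw r.1) (mt (h.inj hw hx) r.2.1) (mt (h.inj hw hy) r.2.2.1)
    (D.c_mul x hx y hy ▸ mt (h.inj hw (mul_mem hx hy)) r.2.2.2)
  obtain ⟨k, t⟩ := h.act _ h1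
  exact h4 (by rw [← t w hw, e k (h.inj (cmem (nor_of k) hx) hx (by rw [t x hx, h2]))
    (h.inj (cmem (nor_of k) hy) hy (by rw [t y hy, h3]))])

theorem cF (l : List G) (hl : ∀ x ∈ l, x ∈ P ∧ x * x = w) (p : l.Pairwise fun a b => a⁻¹ * b ∉ W) :
    l.length * 8 ≤ {x | x ∈ P ∧ x * x = w}.ncard :=
  h.c8 ▸ ((ncard_cos W l).2 p).ge.trans (Set.ncard_le_ncard fun y ⟨x, h1, h2⟩ =>
    ⟨(mul_mem_cancel_left (inv_mem (hl x h1).1)).1 (h.WP h2), (h.cong (h.PQ (hl x h1).1) h2).trans (hl x h1).2⟩)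

theorem cA (hw : w ∈ W) (w1 : w ≠ 1) :
    7 * {x | x ∈ P ∧ x * x = w}.ncard + {x | x ∈ P ∧ x * x = 1}.ncard ≤ 128 := by
  have := h.nP
  have e := H9.card_eq_mul_of_fibers (fun x => x ∈ P ∧ x * x ≠ 1) (fun x => x ∈ W ∧ x ≠ 1) (fun x => x * x)
    (fun x hx => ⟨h.sP hx.1, hx.2⟩) {x | x ∈ P ∧ x * x = w}.ncard fun v hv => by
      obtain ⟨k, rfl⟩ := h.t0 hw hv.1 w1 hv.2
      rw [← Set.ncard_image_of_injective _ (MulAut.conj k).injective]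
      change {x | (x ∈ P ∧ x * x ≠ 1) ∧ x * x = k * w * k⁻¹}.ncard = _
      refine congrArg Set.ncard (Set.ext fun x => ⟨fun ⟨⟨a, _⟩, c⟩ => ⟨k⁻¹ * x * k, ⟨cmem' (nor_of k) a, ?_⟩, by
        simp [mul_assoc]⟩, ?_⟩)
      · calc _ = k⁻¹ * (x * x) * k := by simp [mul_assoc]
          _ = _ := by rw [c]; group
      · rintro ⟨y, ⟨a, b⟩, rfl⟩
        have : k * y * k⁻¹ * (k * y * k⁻¹) = k * w * k⁻¹ := by rw [conj_mul, b]
        exact ⟨⟨cmem (nor_of k) a, this ▸ hv.2⟩, this⟩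
  have e1 := SF.ncard_ne_one W
  have e2 := Set.ncard_union_eq (s := {x | x ∈ P ∧ x * x ≠ 1}) (t := {x | x ∈ P ∧ x * x = 1})
    (Set.disjoint_left.2 fun x a b => a.2 b.2)
  have e3 := Set.ncard_le_ncard (t := (P : Set G)) (Set.union_subset (s := {x | x ∈ P ∧ x * x ≠ 1})
    (t := {x | x ∈ P ∧ x * x = 1}) (fun x a => a.1) fun x a => a.1)
  have := h.cP
  change {x | x ∈ P ∧ x * x ≠ 1}.ncard = {x | x ∈ W ∧ x ≠ 1}.ncard * _ at e
  change _ ≤ Nat.card P at e3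
  rw [h.c8] at e1
  rw [show {x | x ∈ W ∧ x ≠ 1}.ncard = 7 by omega] at e
  omega

theorem two (hx : x ∈ P) (hy : y ∈ P) (hz : z ∈ P) (x1 : x * x ≠ 1) (e1 : y * y = x * x) (e2 : z * z = x * x)
    (r : x⁻¹ * y ∉ W) : x⁻¹ * z ∈ W ∨ y⁻¹ * z ∈ W := by
  by_contra! t
  have := h.cF (w := x * x) [x, y, z] (by simp [*]) (by simp [*])
  have := h.cA (h.sP hx) x1
  simp only [List.length] at *
  omega

theorem gam (hx : x ∈ P) (hy : y ∈ P) (x1 : x * x ≠ 1) (e : y * y = x * x) : x⁻¹ * y * (x⁻¹ * y) = 1 := by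
  have := h.nW
  have := h.nP
  have he := mul_mem (inv_mem hx) hy
  by_contra r
  have r' : x⁻¹ * y ∉ W := fun t => r (h.el _ t)
  have key : ∀ k, k * (x * x) * k⁻¹ = x * x → k * (x⁻¹ * y * (x⁻¹ * y)) * k⁻¹ = x⁻¹ * y * (x⁻¹ * y) := fun k a => by
    have a1 : k * x * k⁻¹ * (k * x * k⁻¹) = x * x := by rw [conj_mul, a]
    have a2 : k * y * k⁻¹ * (k * y * k⁻¹) = x * x := by rw [conj_mul, e, a]
    rw [← conj_mul]
    rcases h.two hx hy (cmem (nor_of k) hx) x1 e a1 r' with u | u <;>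
      rcases h.two hx hy (cmem (nor_of k) hy) x1 e a2 r' with v | v
    · exact (r' (mem_of_eq (cmem' (nor_of k) (mul_mem (inv_mem u) v)) (by group))).elim
    · exact h.cong (h.PQ he) (mem_of_eq (mul_mem (cmem' (nor_of y) (cmem (nor_of x) (inv_mem u))) v) (by group))
    · rw [h.cong (h.PQ (inv_mem he)) (mem_of_eq (mul_mem (cmem' (nor_of x) (cmem (nor_of y) (inv_mem u))) v) (by group)),
        ← mul_inv_rev, inv_eq_of_mul_eq_one_right (h.el _ (h.sP he))]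
    · exact (r' (mem_of_eq (cmem' (nor_of k) (mul_mem (inv_mem u) v)) (by group))).elim
  rcases h.t3 (h.sP hx) (h.sP hx) (h.sP he) fun k a _ => key k a with t | t | t | t
  · exact r t
  iterate 2
    · rcases h.two hx hy he x1 e t r' with u | u
      exacts [x1 (e ▸ h.el y (mem_of_eq (mul_mem (h.sP hx) u) (by group))),
        x1 (h.el x (mem_of_eq (inv_mem (cmem (nor_of y) u)) (by group)))]
  · exact r (t.trans (h.el _ (h.sP hx)))

theorem cm0 (hx : x ∈ P) (hy : y ∈ P) (x1 : x * x ≠ 1) (e : y * y = x * x) : x⁻¹ * y ∈ Cen1 x := c1.2 (by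
  calc _ = x⁻¹ * y * (x⁻¹ * y) * (y⁻¹ * (x * x)) := by group
    _ = _ := by rw [h.gam hx hy x1 e, ← e]; group)

theorem del (hx : x ∈ P) (hx' : x' ∈ P) (hy : y ∈ P) (x1 : x * x ≠ 1) (e : x' * x' = x * x) (y1 : y * y ≠ 1) :
    x⁻¹ * x' ∈ Cen1 y := by
  have := h.nW
  have := h.nP
  by_cases r : x⁻¹ * x' ∈ W
  · exact h.wq r (h.PQ hy)
  obtain ⟨k, a⟩ := h.t0 (h.sP hx) (h.sP hy) x1 y1
  have hX := cmem (nor_of k) hx
  have hX' := cmem (nor_of k) hx'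
  have a1 : k * x * k⁻¹ * (k * x * k⁻¹) = y * y := by rw [conj_mul, a]
  have a2 : k * x' * k⁻¹ * (k * x' * k⁻¹) = k * x * k⁻¹ * (k * x * k⁻¹) := by rw [conj_mul, conj_mul, e]
  have r' : (k * x * k⁻¹)⁻¹ * (k * x' * k⁻¹) ∉ W := fun t => r (mem_of_eq (cmem' (nor_of k) t) (by group))
  have b := h.gam hX hX' (a1 ▸ y1) a2
  have c0 := c1s.1 (h.cm0 hX hX' (a1 ▸ y1) a2)
  have two := h.two hX hX' hy (a1 ▸ y1) a2 a1.symm r'
  have he' := mul_mem (inv_mem hX) hX'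
  have c1 : k * x' * k⁻¹ ∈ Cen1 ((k * x * k⁻¹)⁻¹ * (k * x' * k⁻¹)) :=
    (mul_mem_cancel_left (inv_mem c0)).1 (GW.c1.2 rfl)
  generalize (k * x * k⁻¹)⁻¹ * (k * x' * k⁻¹) = f at *
  have c2 : f ∈ Cen1 y := c1s.1 (two.elim (fun t => (mul_mem_cancel_left (inv_mem c0)).1 (h.wq t (h.PQ he')))
    fun t => (mul_mem_cancel_left (inv_mem c1)).1 (h.wq t (h.PQ he')))
  by_cases t : f⁻¹ * (x⁻¹ * x') ∈ W
  · exact (mul_mem_cancel_left (inv_mem c2)).1 (h.wq t (h.PQ hy))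
  have := h.cF (w := 1) [1, f, x⁻¹ * x'] (by simp [he', b, mul_mem (inv_mem hx) hx', h.gam hx hx' x1 e])
    (by simp [r', r, t])
  have := h.cF (w := x * x) [x, x'] (by simp [*]) (by simp [r])
  have := h.cA (h.sP hx) x1
  simp only [List.length] at *
  omega

theorem eps (hx : x ∈ P) (hx' : x' ∈ P) (hy : y ∈ P) (hy' : y' ∈ P) (x1 : x * x ≠ 1) (e : x' * x' = x * x)
    (y1 : y * y ≠ 1) (e' : y' * y' = y * y) : x' * y' * (x' * y') = x * y * (x * y) := by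
  have a := sq_ins (h.del hx hx' hx x1 e x1) (h.del hx hx' hy' x1 e (e' ▸ y1)) (h.gam hx hx' x1 e)
  have b := sq_ins (b := 1) (c1s.1 (mul_mem (c1s.1 (h.del hy hy' hx y1 e' x1)) (c1s.1 (h.del hy hy' hy y1 e' y1))))
    (c1.2 (by simp)) (h.gam hy hy' y1 e')
  simp only [mul_assoc, mul_inv_cancel_left, mul_one] at a b ⊢
  rw [a, b]

theorem comm (hx : x ∈ P) (hy : y ∈ P) (x1 : x * x ≠ 1) (y1 : y * y ≠ 1) : x * y = y * x := by
  have := h.nW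
  have := h.nP
  by_cases e : x * x = y * y
  · exact (c1.1 ((mul_mem_cancel_left (inv_mem (c1.2 rfl))).1 (h.cm0 hx hy x1 e.symm))).symm
  have hxy := mul_mem hx hy
  have cj : ∀ k, ∀ x ∈ P, k * x * k⁻¹ ∈ P := fun k x => cmem (nor_of k)
  rcases h.t3 (h.sP hx) (h.sP hy) (h.sP hxy) fun k a b => by
    rw [← conj_mul, ← conj_mul (a := x), h.eps hx (cj k x hx) hy (cj k y hy) x1 (by rw [conj_mul, a]) y1
      (by rw [conj_mul, b])] with t | t | t | t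
  · exfalso
    obtain ⟨k, a, b⟩ := h.t1 (h.sP hx) (h.sP hy) x1 y1 e
    have hz := cj k y hy
    have z2 : k * y * k⁻¹ * (k * y * k⁻¹) = x * x * (y * y) := by rw [conj_mul, b]
    have u2 := h.el _ (h.sP hx)
    have v2 := h.el _ (h.sP hy)
    have uv := c1.1 (h.wq (h.sP hx) (h.PQ (mul_mem hy hy)))
    have z1 : x * x * (y * y) ≠ 1 := fun r => e (mul_right_cancel (r.trans v2.symm))
    have e1 : y * (k * y * k⁻¹) * (y * (k * y * k⁻¹)) = 1 := by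
      rw [h.eps (cj k x hx) hy hz hz (by rwa [conj_mul, a]) (by rw [conj_mul, a]) (z2 ▸ z1) rfl, conj_mul,
        conj_mul, t]; simp
    have z3 : k * (k * y * k⁻¹) * k⁻¹ * (k * (k * y * k⁻¹) * k⁻¹) = x * x := by
      rw [conj_mul, z2, ← conj_mul, a, b, uv, ← mul_assoc, v2, one_mul]
    have e2 : k * y * k⁻¹ * x * (k * y * k⁻¹ * x) = 1 := by
      rw [h.eps hz hz (cj k _ hz) hx (z2 ▸ z1) rfl (z3 ▸ x1) z3.symm, conj_mul, conj_mul, e1]; simp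
    generalize k * y * k⁻¹ = z at hz z2 e1 e2
    have e3 : x * y * (y * z) * (x * y * (y * z)) = 1 := by
      rw [show x * y * (y * z) = x * (y * y) * z by group, sq_ins (h.wq (h.sP hy) (h.PQ hx)) (h.wq (h.sP hy) (h.PQ hz)) v2]
      calc _ = x * (z * x * (z * x)) * x⁻¹ := by group
        _ = _ := by rw [e2]; group
    have c1 : x * y ∈ Cen W := le_cen_symm h.wc (h.PQ hxy)
    have c2 : y * z ∈ Cen (W ⊔ zpowers (x * y) : Subgroup G) := cen_iff_le.2 (sup_le (fun w hw => h.wq hw (h.PQ (mul_mem hy hz)))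
      (zpowers_le.2 (GW.c1.2 (by
        rw [← inv_eq_of_mul_eq_one_right e3, mul_inv_rev, inv_eq_of_mul_eq_one_right e1, inv_eq_of_mul_eq_one_right t]))))
    have := h.sr ⊥ _ bot_le (fun g _ => nor_of g) (el_sup (el_sup h.el t c1) e1 c2)
    have iv : ∀ x ∈ P, ∀ y, x * y ∈ W → y * y = x * x := fun x hx y r => by
      rw [h.cong (h.PQ (inv_mem hx)) (by simpa), ← mul_inv_rev, inv_eq_of_mul_eq_one_right (h.el _ (h.sP hx))]
    rw [SF.card_sup_zp (mcnor c2) (e1 ▸ one_mem _) fun r => by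
        rcases (SF.mem_sup_zp (mcnor c1) (t ▸ one_mem _)).1 r with r | r
        · exact x1 (mul_right_cancel (z2.symm.trans ((iv y hy z r).trans (one_mul _).symm)))
        · exact y1 (mul_left_cancel (z2.symm.trans ((iv z hz x (mem_of_eq (mul_mem (cmem' (nor_of y) r)
            (inv_mem (h.sP hy))) (by group))).symm.trans (mul_one _).symm))),
      SF.card_sup_zp (mcnor c1) (t ▸ one_mem _) fun r => e (iv x hx y r).symm, h.c8, card_bot] at this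
    omega
  · exact absurd (h.gam hx hxy x1 t) (by simpa)
  · refine (x1 ?_).elim
    calc _ = y * (y⁻¹ * (x * y) * (y⁻¹ * (x * y))) * y⁻¹ := by group
      _ = _ := by rw [h.gam hy hxy y1 t]; group
  · calc _ = x⁻¹ * (x * x * (y * y)) * y⁻¹ := by group
      _ = _ := by rw [← t]; group

end CX

end R4
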