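import Cfsg.Agent.R4.G4

/-! Groups with `G / Q ≅ L₃(2)`: two noncentral chief factors are impossible. -/

set_option autoImplicit false
set_option linter.unusedVariables false
set_option linter.unusedSectionVars false

namespace R4

open Cfsg Subgroup FT H4 H5 GW L M4 MW
open scoped Matrix

variable {G : Type*} [Group G] [Finite G] {Q W N M H K Y A Z P V : Subgroup G} {x y z d s g w : G}

/-- the subgroup generated by the elements of order greater than two -/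
def NI (P : Subgroup G) : Subgroup G := closure {x | x ∈ P ∧ x * x ≠ 1}

namespace CX
variable {D : H8.Coord W ⊥ 3} (h : CX Q W P g D)
include h

theorem AP : NI P ≤ P := (closure_le _).2 fun x hx => hx.1

theorem nA : (NI P).Normal := normal_of fun k => mnor fun x hx =>
  have := h.nP
  (closure_le ((NI P).comap (MulAut.conj k).toMonoidHom)).2 (fun y hy => subset_closure
    ⟨cmem (nor_of k) hy.1, show k * y * k⁻¹ * (k * y * k⁻¹) ≠ 1 by simpa using hy.2⟩) hx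

theorem abA : NI P ≤ Cen (NI P) := (closure_le _).2 fun x hx => cen_iff_le.2 ((closure_le _).2 fun y hy =>
  c1.2 (h.comm hy.1 hx.1 hy.2 hx.2))

theorem LA : Ph Q ≤ NI P := fun l hl => by
  obtain ⟨x, hx, x1⟩ := h.exP
  have xa : x ∈ NI P := subset_closure ⟨hx, x1⟩
  refine (mul_mem_cancel_left xa).1 (subset_closure ⟨mul_mem hx (h.LP hl), ?_⟩)
  have := sq_ins (b := 1) (c1.2 (cen.1 (h.lc hl) x (h.PQ hx))) (c1.2 (by simp)) (h.lel l hl)
  simp only [mul_one] at this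
  rwa [this]

theorem co (hZ : ∀ a ∈ NI P, a ∈ Z ↔ a * a = 1) :
    ∃ C : H8.Coord (NI P) Z 3, D.ρ = C.ρ ∧ ∀ a ∈ NI P, C.c a = D.c (a * a) :=
  have s : ∀ a ∈ NI P, a * a ∈ W := fun a ha => h.sP (h.AP ha)
  ⟨⟨D.ρ, fun a => D.c (a * a), fun a ha b hb => by
    rw [← D.c_mul _ (s a ha) _ (s b hb), mul_assoc a b, ← mul_assoc b, cen.1 (h.abA hb) a ha]; simp [mul_assoc],
    fun a ha => (D.c_eq_zero _ (s a ha)).trans (hZ a ha).symm, fun v => by
      obtain ⟨w, hw, rfl⟩ := D.c_surj v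
      by_cases r : w = 1
      · exact ⟨1, one_mem _, by simp [r]⟩
      obtain ⟨x, hx, x1⟩ := h.exP
      obtain ⟨k, e⟩ := h.t0 (h.sP hx) hw x1 r
      exact ⟨_, h.nA.conj_mem x (subset_closure ⟨hx, x1⟩) k, by simp only [conj_mul, e]⟩,
    fun k a ha => by simp only [conj_mul]; exact D.c_conj k _ (s a ha)⟩, rfl, fun _ _ => rfl⟩

theorem case8 (r : Om (NI P) ≤ W) : False := by
  have := h.nW
  have := h.nA
  have WA := h.WL.trans h.LA
  obtain ⟨C, e, cd⟩ := h.co (Z := W) fun a ha => ⟨h.el a, fun t => r (mem_Om.2 ⟨ha, t, h.abA ha⟩)⟩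
  have QP : Q ≤ P := fun x hx => h.mP.2 ⟨hx, r (mem_Om.2 ⟨h.LA (sqP hx), h.lel _ (sqP hx), h.abA (h.LA (sqP hx))⟩)⟩
  obtain ⟨d, s, h1, h2, h3, h4⟩ := lifts (ρ := C.ρ) (e ▸ h.k ▸ h.pQ) (e ▸ h.sj)
  have c := card_co C WA
  have := card_le_of_le QP
  have := h.cP
  refine PS.core ⟨e ▸ h.k, e ▸ h.sj, h.AP.trans h.PQ, h.nA, by rw [c, h.c8]; omega, h1, h2, h3, h4, fun x hx => ?_⟩
    h.sr h.abA D e cd WA (fun a ha => h.sP (h.AP ha)) h.c8
  by_contra t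
  have q : x * x ∈ P := QP (h.k.le (e ▸ Rsq hx))
  have i : ∀ y ∈ P, y ∉ NI P → y * y = 1 := fun y hy t => by_contra fun u => t (subset_closure ⟨hy, u⟩)
  obtain ⟨p, xp⟩ := hx
  obtain ⟨v, v1, v2⟩ := (Te_f p).2.2.2.2.2.2.2.1
  obtain ⟨a, ha, rfl⟩ := C.c_surj v
  have m := cfx (g := x) C ha (xp ▸ v1)
  have e1 := i _ (mul_mem q (h.AP ha)) fun u => t ((mul_mem_cancel_right ha).1 u)
  have e2 : (a * a)⁻¹ = (a⁻¹ * (x * a * x⁻¹))⁻¹ * (x * (a⁻¹ * (x * a * x⁻¹)) * x⁻¹) := by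
    rw [inv_eq_of_mul_eq_one_right (h.el _ m)]
    calc _ = a⁻¹ * (x * x * a * (x * x * a)) * a⁻¹ := by rw [e1]; group
      _ = a⁻¹ * (x * x * a * (x * x)⁻¹) := by rw [inv_eq_of_mul_eq_one_right (i _ q t)]; group
      _ = _ := by simp [mul_assoc]
  rw [cd a ha, ← c_inv D (h.sP (h.AP ha)), e2, ccm D x m, e, xp] at v2
  exact v2 (Te_v p _).1

theorem case16 (hz : z ∈ Om (NI P)) (z1 : z ∉ W) : False := by
  have := h.nW
  have := h.nA
  have := h.nQ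
  have : Fact (Nat.Prime 7) := ⟨by norm_num⟩
  set V := Om (NI P)
  have nV : V.Normal := normal_of fun k => Om_nor (nor_of k)
  have mV : ∀ a ∈ NI P, a ∈ V ↔ a * a = 1 := fun a ha => ⟨Om_el a, fun t => mem_Om.2 ⟨ha, t, h.abA ha⟩⟩
  have LV : Ph Q ≤ V := fun l hl => (mV l (h.LA hl)).2 (h.lel l hl)
  have WV := h.WL.trans LV
  obtain ⟨C, e, cd⟩ := h.co mV
  have c8 := h.c8
  have cV : Nat.card V = 16 := by
    have := h.sr ⊥ V bot_le (fun g _ => nor_of g) Om_el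
    have := _root_.TW.half (lt_of_le_not_ge WV fun r => z1 (r hz))
    rw [card_bot] at *; omega
  have cA := card_co C Om_le
  have PA := (SF.eq_of_le_card h.AP (h.cP.trans (by rw [cA, cV]))).ge
  have QV : Q ≤ Cen V := fun q hq => cen_iff_le.2 fun v hv => by
    by_cases r : q * q ∈ W
    · exact c1.2 (cen.1 (Om_cen hv) q (PA (h.mP.2 ⟨hq, r⟩)))
    by_cases t : v ∈ W
    · exact h.wq t hq
    exact (mul_mem_cancel_right (c1.2 (by group))).1 (h.wq (TW.idx2 WV (by omega) v hv _ (LV (sqP hq)) t r) hq)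
  obtain ⟨n, hn, c0⟩ := ca1 h.o (el_two h.el) (nor_of g) (cm_idx WV (by omega) g hz)
  have hz0 := mul_mem hz (WV hn)
  have z0 : z * n ∉ W := fun r => z1 ((mul_mem_cancel_right hn).1 r)
  generalize z * n = u at c0 hz0 z0
  set O := {x | MT.Cj ⊤ u x}
  have o1 : ∀ k, ∀ x ∈ O, k * x * k⁻¹ ∈ O := fun k x ⟨a, _, r⟩ => ⟨k * a, trivial, by rw [← r]; group⟩
  have o2 : O ⊆ {a | a ∈ V ∧ a ∉ W} := fun x ⟨a, _, r⟩ =>
    r ▸ ⟨cmem (nor_of a) hz0, fun s => z0 (mem_of_eq (cmem' (nor_of a) s) (by group))⟩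
  have uO : u ∈ O := ⟨1, trivial, by simp⟩
  have o3 := SF.modEq_cen_elt (p := 7) (k := 1) h.g7 (o1 g)
  rw [show O ∩ Cen1 g = {u} from Set.ext fun x => ⟨fun t => (inv_mul_eq_one.1 (h.wg ⟨TW.idx2 WV (by omega) _
    (inv_mem hz0) x (o2 t.1).1 (by simpa) (o2 t.1).2, (Cen1 g).mul_mem ((Cen1 g).inv_mem c0) t.2⟩)).symm,
    fun t => t ▸ ⟨uO, c0⟩⟩, Set.ncard_singleton, Nat.ModEq] at o3
  have o4 := ncard_out WV
  have o5 := Set.ncard_le_ncard o2
  have o6 : O.ncard ≠ 1 := fun r => by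
    obtain ⟨a, ha⟩ := Set.ncard_eq_one.1 r
    exact z0 (h.nc u (h.PQ (h.AP (Om_le hz0))) (fun k =>
      mul_inv_eq_iff_eq_mul.1 ((ha.le (o1 k u uO)).trans (ha.le uO).symm)) ▸ one_mem _)
  have o7 := Set.eq_of_subset_of_ncard_le o2 (by omega)
  have fx : ∀ x, D.ρ x ^ 4 = 1 → D.ρ x ≠ 1 → V ⊓ Cen1 x ≤ W := fun x x4 x1 v hv => by_contra fun t => by
    obtain ⟨k, -, rfl⟩ := o7.ge ⟨hv.1, t⟩
    have e1 : O.ncard * _ = _ := MT.card_cj ⊤ u
    have e2 := card_eq_card_map_mul D.ρ (Cen1 u)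
    rw [top_inf_eq, card_top, h.cd, show O.ncard = 8 by omega, e2, h.k,
      inf_of_le_right (fun q hq => c1s.1 (cen_iff_le.1 (QV hq) hz0)), ← mul_assoc] at e1
    have e3 : Nat.card ((Cen1 u).map D.ρ) = 21 := by have := Nat.eq_of_mul_eq_mul_right Nat.card_pos e1; omega
    have := pow_card (mem_map_of_mem D.ρ (show k⁻¹ * x * k⁻¹⁻¹ ∈ Cen1 u from
      by simpa [mul_assoc] using kc (c1s.1 hv.2) k⁻¹))
    rw [e3, map_mul, map_mul, map_inv _ k⁻¹, conj_pow, show 21 = 4 * 5 + 1 from rfl, pow_succ, pow_mul, x4] at this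
    exact x1 (conj_eq_one_iff.1 (by simpa only [one_pow, one_mul, mul_one] using this))
  obtain ⟨r, hr⟩ := h.sj (mkS sM ds_f.2.1 * mkS (Te (1, 0)) (Te_f _).1)
  have hr : (D.ρ r).1 = sM * Te (1, 0) := congrArg Subtype.val hr
  have r2 : (D.ρ (r * r)).1 = Te (1, 1) := by rw [rm, hr, ds_f.2.2.2.2.2.2.2.2.1]
  have t4 : ∀ x, (D.ρ x).1 = Te (1, 1) → D.ρ (x * x) = 1 ∧ D.ρ x ≠ 1 := fun x e =>
    ⟨Rsq ⟨_, e⟩, fun t => absurd ((Te_f _).2.2.2.2.1 (e.symm.trans (congrArg Subtype.val t))) (by decide)⟩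
  have q4 : r * r * (r * r) ∈ Q := h.k.le (t4 _ r2).1
  have a4 : r * r * (r * r) ∈ NI P := PA (h.mP.2 ⟨q4, fx r (by
    rw [← (t4 _ r2).1]; simp [pow_succ, mul_assoc]) (fun t => (t4 _ r2).2 (by rw [map_mul, t, one_mul]))
    ⟨LV (sqP q4), c1.2 (by group)⟩⟩)
  obtain ⟨v, hv⟩ := (Te_v (1, 1) (C.c (r * r * (r * r)))).2.2.2 (by decide)
    ((ds_v _).2.2.1 (by rw [← hr, e, ← C.c_conj _ _ a4]; congr 1; group))
  obtain ⟨a, ha, rfl⟩ := C.c_surj v
  have xp : (D.ρ (r * r * a)).1 = Te (1, 1) := by rw [rm, r2, r1.2 (h.k.ge (h.PQ (h.AP ha))), mul_one]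
  have x2 : r * r * a * (r * r * a) ∈ V := by
    have m := cmem (nor_of (r * r)⁻¹) ha
    refine mem_of_eq ((C.c_eq_zero _ (mul_mem a4 (mul_mem m ha))).1 ?_) (by simp [mul_assoc])
    rw [C.c_mul _ a4 _ (mul_mem m ha), C.c_mul _ m _ ha, C.c_conj _ _ ha, ← e, riT r2, ← hv, add_comm (C.c a),
      (ds_v _).2.2.2.2.2.1]
  generalize r * r * a = x at xp x2
  have cN := _root_.TW.half (M := V ⊓ Cen1 x) (S := W) (lt_of_le_not_ge (fx x (by
    rw [show 4 = 2 * 2 from rfl, pow_mul, sq (D.ρ x), ← map_mul, (t4 x xp).1, one_pow]) (t4 x xp).2) fun t =>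
      (t4 x xp).2 (D.mem_ker.2 fun q hq => by rw [commutatorElement_def, c1.1 (t hq).2]; simp))
  have n : NI P ≤ Nor V := fun g _ => nor_of g
  have cB := sqFx Om_le (fun a ha => WV (h.sP (h.AP ha))) (Om_le x2) n
  set B := Fx (NI P) V n x
  have tB : x ∈ Nor B := Fx_nor n Om_le (nor_of x)
  have xB : x * x ∈ B := le_Fx n Om_le (nor_of x) x2
  have := h.sr (V ⊓ Cen1 x) (B ⊔ zpowers x) (inf_le_left.trans ((le_Fx n Om_le (nor_of x)).trans le_sup_left))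
    (sup_le (Fx_le.trans (cnor (le_cen_symm (inf_le_left.trans Om_cen))))
      (zpowers_le.2 (mcnor (cen_iff_le.2 inf_le_right)))) fun y hy => by
      rcases (SF.mem_sup_zp tB xB).1 hy with r | r
      · refine ⟨WV (h.sP (h.AP r.1)), c1s.1 (c1'.2 ?_)⟩
        simpa [mul_assoc] using sq_ins (b := 1) (c1.2 (cen.1 (Om_cen r.2) y r.1)) (c1.2 (by simp)) (Om_el _ r.2)
      · have m : y * y ∈ V := mem_of_eq (mul_mem (inv_mem (cmem (nor_of y) x2)) (mul_mem (WV (h.sP (h.AP r.1))) r.2))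
          (by simp [mul_assoc])
        exact ⟨m, c1s.1 (mem_of_eq (mul_mem (inv_mem (c1.2 (by group) : y ∈ Cen1 (y * y)))
          (c1.2 (cen.1 (Om_cen m) _ r.1).symm)) (by group))⟩
  rw [SF.card_sup_zp tB xB fun r => (t4 x xp).2 (h.k.ge (h.PQ (h.AP r.1)))] at this
  rw [cA, cV] at cB
  nlinarith

theorem false : False := by
  by_cases r : Om (NI P) ≤ W
  exacts [h.case8 r, let ⟨z, a, b⟩ := SetLike.not_le_iff_exists.1 r; h.case16 a b]

end CX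

end R4
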