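import Cfsg.Agent.R4.G5
import Cfsg.Agent.H2.F4

/-! Groups with `G / Q ≅ L₃(2)`: conclusion. -/

set_option autoImplicit false
set_option linter.unusedVariables false
set_option linter.unusedSectionVars false

namespace R4

open Cfsg Subgroup FT H4 H5 GW L M4 MW
open scoped Matrix

universe u

theorem ind7 (n : ℕ) : ∀ (G : Type u) [Group G] [Finite G] (Q : Subgroup G) (g : G),
    Nat.card G < n → F7 Q g → Q ≤ Cen Q ∧ Ph Q ≤ Cen1 g := by
  induction n with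
  | zero => intros; omega
  | succ n ih =>
    intro G _ _ Q g hn h
    have := h.nQ
    have k : ∀ W : Subgroup G, [W.Normal] → W ≠ ⊥ → W ≤ Q → (W ≤ Ph Q ∨ W ≤ Cen1 g) →
        (∀ x ∈ Q, ∀ y ∈ Q, x * y * x⁻¹ * y⁻¹ ∈ W) ∧ ∀ l ∈ Ph Q, l⁻¹ * (g * l * g⁻¹) ∈ W := fun W _ W0 l e => by
      obtain ⟨a, b⟩ := ih _ _ _ (by have := H7.card_quotient_lt W W0; omega) (h.quot l e)
      have o : ∀ x, QuotientGroup.mk' W x = 1 ↔ x ∈ W := fun x => QuotientGroup.eq_one_iff x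
      refine ⟨fun x hx y hy => (o _).1 ?_, fun l hl => (o _).1 ?_⟩ <;> simp only [map_mul, map_inv]
      · rw [cen.1 (a (mem_map_of_mem _ hx)) _ (mem_map_of_mem _ hy)]; group
      · rw [c1'.1 (c1s.1 (b ((Ph_map _).ge (mem_map_of_mem _ hl)))), inv_mul_cancel]
    by_cases nc : ∀ z ∈ Q, (∀ k, k * z = z * k) → z = 1
    · by_cases h0 : Ph Q = ⊥
      · exact ⟨fun x hx => cen.2 fun y hy => by simpa [mul_inv_eq_iff_eq_mul] using h0.le (cmP hx hy), h0 ▸ bot_le⟩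
      obtain ⟨W, l, nW, W0, wc, el, m⟩ := ex_min h.pQ PhQ h0
      have wg : ¬ W ≤ Cen1 g := fun r => W0 (eq_bot_iff.2 fun w hw => nc w (PhQ (l hw)) (h.cenG wc r hw))
      have c := h.sr ⊥ W bot_le (fun g _ => nor_of g) el
      rw [card_bot] at c
      have c1 := sev h.g7 (el_two el) c (nor_of g) wg
      have p : 0 < Nat.card ↥(W ⊓ Cen1 g) := Nat.card_pos
      have c8 : Nat.card W = 8 := by_contra fun r => by
        obtain ⟨j, hj⟩ := h.pQ.exists_card_eq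
        obtain ⟨M, a, b, e⟩ := inv8 h.g7 el (by omega) wg fun t =>
          absurd ((Nat.Coprime.pow_right j (by norm_num)).dvd_of_dvd_mul_right (hj ▸ h.cd ▸ t)) (by decide)
        have := card_le_of_le (m M a b fun t => by rw [t, card_bot] at e; omega)
        omega
      obtain ⟨D⟩ := coord3 (M := W) (N := ⊥) el bot_le (by simp [c8])
      obtain ⟨w, hw, w1⟩ := SetLike.not_le_iff_exists.1 wg
      obtain ⟨k1, k2⟩ := h.crd D (fun m hm q hq => by rw [cen.1 (wc hm) q hq]; simp) hw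
        fun r => w1 (c1s.1 (c1'.2 (inv_mul_eq_one.1 r).symm))
      obtain ⟨a, b⟩ := k W W0 (l.trans PhQ) (Or.inl l)
      have n : Q ≤ Nor W := fun g _ => nor_of g
      exact (CX.false (P := Ym Q W n) ⟨h, nW, normal_of fun g => Ym_nor n (nor_of g) (nor_of g), l, wc, el, c8, nc, a, b,
        (card_eq_one.1 (by omega)).le, k1, k2, ⟨fun r => ⟨r.1, r.2.1⟩, fun r => ⟨r.1, r.2, a _ r.1⟩⟩⟩).elim
    · push Not at nc
      obtain ⟨y, hy, yc, y1⟩ := nc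
      obtain ⟨z, hz, z1, z2⟩ := ex_top (W := ⊥) (PElt_of_mem h.pQ hy) y1
      have zc : ∀ k, zpowers z ≤ Cen1 k := fun k => zpowers_le.2 (zpowers_le.2 (c1.2 (yc k).symm) hz)
      have : (zpowers z).Normal := normal_of fun k => mzp (c1s.1 (zc k (mem_zpowers z)))
      have l := zpowers_le.2 (zpowers_le.2 hy hz)
      obtain ⟨a, b⟩ := k (zpowers z) (by simpa using z1) l (Or.inr (zc g))
      have c : Nat.card (zpowers z) = 2 := by rw [Nat.card_zpowers, MT.o2 z2 z1]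
      have lg := cstep h.o (h.pQ.to_le l) (nor_of g) (zc g) b
      exact ⟨h.ab c.le (fun w hw => cen.2 fun q _ => c1.1 (zc q hw))
        (fun w hw => by simpa [c, sq] using pow_card hw) a lg, lg⟩

variable {G : Type*} [Group G] [Finite G] {Q : Subgroup G} {g : G}

namespace F7
variable (h : F7 Q g) (ab : Q ≤ Cen Q) (lg : Ph Q ≤ Cen1 g)
include h ab lg

theorem om (q : G) (hq : q ∈ Q) (k : G) : q⁻¹ * (k * q * k⁻¹) ∈ Om Q := by
  have := h.nQ
  have m := mul_mem (inv_mem hq) (cmem (nor_of k) hq)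
  refine mem_Om.2 ⟨m, ?_, ab m⟩
  calc _ = q⁻¹ * (k * q * k⁻¹ * q⁻¹) * (k * q * k⁻¹) := by group
    _ = (q * q)⁻¹ * (k * (q * q)) * k⁻¹ := by rw [cen.1 (ab (cmem (nor_of k) hq)) _ (inv_mem hq)]; simp [mul_assoc]
    _ = _ := by rw [h.cenG (PhQ.trans ab) lg (sqP hq) k]; group

theorem sqM {K : Subgroup G} [K.Normal] (l : K ≤ Q) {x : G} (hx : x ∈ Om Q ⊔ K) : x * x ∈ Ph K := by
  obtain ⟨a, ha, b, hb, rfl⟩ := mem_sup_of_normal_right.1 hx
  have := sq_ins (a := 1) (c1.2 (by simp)) (c1.2 (cen.1 (Om_cen ha) b (l hb))) (Om_el a ha)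
  simp only [one_mul] at this
  exact this ▸ sqP hb

theorem crM (r : Ph Q ≠ ⊥) : Nat.card Q = 16 * Nat.card (Ph Q) ∧ Nat.card ↥(Om Q ⊔ Ph Q) = 8 * Nat.card (Ph Q) ∧
    ∃ C : H8.Coord (Om Q ⊔ Ph Q) (Ph Q) 3, C.ρ.ker = Q ∧ Function.Surjective C.ρ := by
  have := h.nQ
  have : (Om Q).Normal := normal_of fun k => Om_nor (nor_of k)
  have l : Om Q ⊔ Ph Q ≤ Q := sup_le Om_le PhQ
  have c := _root_.TW.half (lt_of_le_not_ge l fun t =>
    r (Ph_bot (h.pQ.to_le PhQ) (Ph_le fun x hx => h.sqM ab lg PhQ (t hx))))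
  have c1 := h.sr.Ph (Q := Q)
  obtain ⟨x, hx, e⟩ : ∃ x ∈ Om Q ⊔ Ph Q, x⁻¹ * (g * x * g⁻¹) ∉ Ph Q := by
    by_contra! t
    obtain ⟨q, hq, e⟩ := h.gn
    have := cstep h.o (h.pQ.to_le l) (nor_of g) (cstep h.o (h.pQ.to_le PhQ) (nor_of g) lg t)
      (fun q hq => mem_sup_left (h.om ab lg q hq g)) hq
    exact e (by rw [c1'.1 (c1s.1 this), inv_mul_cancel]; exact one_mem _)
  have c2 := (sev2 h.g7 (h.pQ.to_le l) le_sup_right (fun g _ => nor_of g) (nor_of g) (nor_of g) (by omega) hx e).2.2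
  have c3 : Nat.card ↥(Om Q ⊔ Ph Q) = 8 * Nat.card (Ph Q) := by omega
  obtain ⟨C⟩ := coord3 (fun a ha => sqP (l ha)) le_sup_right c3
  exact ⟨by omega, c3, C, h.crd C (fun m hm q hq => cmP (l hm) hq) hx e⟩

theorem lel : ∀ l ∈ Ph Q, l * l = 1 := fun y hy => by_contra fun y1 => by
  have := h.nQ
  have : (Om Q).Normal := normal_of fun k => Om_nor (nor_of k)
  have pL := h.pQ.to_le (PhQ (Q := Q))
  have n2 : ¬ Ph (Ph Q) ≤ Ph (Ph (Ph Q)) := fun r => y1 ((Ph_bot (pL.to_le PhQ) r).le (sqP hy))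
  obtain ⟨c1, c2, C, k, sj⟩ := h.crM ab lg fun r => y1 (by rw [mem_bot.1 (r.le hy), one_mul])
  have l : Om Q ⊔ Ph Q ≤ Q := sup_le Om_le PhQ
  have ix : Nat.card Q ≤ 2 * Nat.card ↥(Om Q ⊔ Ph Q) := by omega
  have f1 : ∀ x ∈ Q, x * x * (x * x) = 1 → x ∈ Om Q ⊔ Ph Q := fun x hx e => by_contra fun r => n2 (Ph_le fun u hu =>
    h.sqM ab lg (PhQ.trans PhQ) (Ph_le (fun v hv => by
      by_cases t : v ∈ Om Q ⊔ Ph Q
      · exact mem_sup_right (h.sqM ab lg PhQ t)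
      have m := inv_mem (mul_mem hx hx)
      refine mem_of_eq (mul_mem (mem_sup_left (mem_Om.2 ⟨m, by rw [← mul_inv_rev, e, inv_one], ab m⟩))
        (mem_sup_right (h.sqM ab lg PhQ (TW.idx2 l ix x hx v hv r t)))) ?_
      rw [mul_assoc x v, ← mul_assoc v, cen.1 (ab hv) x hx]; simp [mul_assoc]) hu))
  obtain ⟨d, s, h1, h2, h3, h4⟩ := lifts (ρ := C.ρ) (h.pQ.to_le k.le) sj
  have sq : ∀ x ∈ Rr C.ρ, x * x ∈ Q := fun x hx => k.le (Rsq hx)
  have cm : ∀ x ∈ Rr C.ρ, ∀ y ∈ Rr C.ρ, x * y * x⁻¹ * y⁻¹ ∈ Om Q ⊔ Ph Q := fun x hx y hy => by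
    have m : x * y * x⁻¹ * y⁻¹ ∈ Q := Ph_le sq (cmP hx hy)
    exact f1 _ m (Om_el _ (mem_of_eq (mul_mem (cmem (nor_of (x * y * x⁻¹ * y⁻¹)) (inv_mem (h.om ab lg _ m x)))
      (h.om ab lg _ (inv_mem (sq x hx)) y)) (by simp [mul_assoc])))
  refine PS.fin ⟨k, sj, l, inferInstance, ix, h1, h2, h3, h4, fun x hx => ?_⟩ h.sr h.pQ ab
    (fun z hz => h.cenG (PhQ.trans ab) lg hz) (fun m hm => sqP (l hm)) le_sup_right
    (fun q hq k => Om_el _ (h.om ab lg q hq k)) (N := Om Q ⊔ Ph (Ph Q))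
    (fun m hm => mem_sup_right (h.sqM ab lg PhQ hm)) (fun m hm e => mem_sup_left (mem_Om.2 ⟨l hm, e, ab (l hm)⟩))
    fun r => n2 (Ph_le fun u hu => h.sqM ab lg (PhQ.trans PhQ) (r hu))
  have x1 := cmem (Rd h2) hx
  have x2 := cmem' (Rd h2) hx
  exact trq (y := d * x * d⁻¹) (z := d⁻¹ * x * d) (nor_of _) (by simpa using cm _ (inv_mem hx) _ (mul_mem x1 x2))
    (by simpa using cm _ (inv_mem x1) _ x2) (mem_sup_right (sqP (k.le (Rtr h2 hx)))) (mem_sup_right (sqP (sq x hx)))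
    (mem_sup_left (mem_of_eq (h.om ab lg _ (sq x hx) d) (by simp)))
    (mem_sup_left (mem_of_eq (h.om ab lg _ (sq x hx) d⁻¹) (by simp [mul_assoc])))

theorem iso (r : Ph Q ≠ ⊥) : Nonempty (Q ≃* Multiplicative (ZMod 4) × (Fin 3 → Multiplicative (ZMod 2))) := by
  have := h.nQ
  have el := h.lel ab lg
  have LO : Ph Q ≤ Om Q := fun x hx => mem_Om.2 ⟨PhQ hx, el x hx, ab (PhQ hx)⟩
  obtain ⟨c1, c2, C, -⟩ := h.crM ab lg r
  rw [sup_of_le_left LO] at c2 C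
  have c3 := h.sr ⊥ (Om Q) bot_le (fun g _ => nor_of g) Om_el
  have c4 := (one_lt_card_iff_ne_bot _).2 r
  rw [card_bot] at c3
  obtain ⟨y, hy, y1⟩ := SF.exists_not_mem (N := Om Q) (U := Q) (by omega)
  choose a ha ca using fun i => C.c_surj (Pi.single i 1)
  have y4 : y ^ 4 = 1 := by rw [← el _ (sqP hy)]; simp [pow_succ, mul_assoc]
  let _ : CommGroup Q := { (inferInstance : Group Q) with mul_comm := fun x y => Subtype.ext (cen.1 (ab x.2) y y.2) }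
  have H : ∀ n [NeZero n], ∀ x : Q, x ^ n = 1 → ∃ φ : Multiplicative (ZMod n) →* Q, ∀ k, φ k = x ^ k.toAdd.val :=
    fun n _ x e => ⟨MonoidHom.mk' (fun k => x ^ k.toAdd.val) fun i j => by
      rw [toAdd_mul, ZMod.val_add, ← pow_eq_pow_mod _ e, pow_add], fun _ => rfl⟩
  obtain ⟨φ, hφ⟩ := H 4 ⟨y, hy⟩ (Subtype.ext y4)
  choose ψ hψ using fun i => H 2 ⟨a i, Om_le (ha i)⟩ (Subtype.ext ((sq _).trans (Om_el _ (ha i))))
  let f := φ.coprod ((ψ 0).comp (Pi.evalMonoidHom _ 0) * (ψ 1).comp (Pi.evalMonoidHom _ 1) *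
    (ψ 2).comp (Pi.evalMonoidHom (fun _ : Fin 3 => Multiplicative (ZMod 2)) 2))
  have cp : ∀ x ∈ Om Q, ∀ n : ℕ, C.c (x ^ n) = n • C.c x := fun x hx n => by
    induction n with
    | zero => simp [c_one]
    | succ n ih => rw [pow_succ, C.c_mul _ (pow_mem hx n) _ hx, ih, succ_nsmul]
  refine ⟨(MulEquiv.ofBijective f ((Nat.bijective_iff_injective_and_card f).2
    ⟨(injective_iff_map_eq_one f).2 fun ⟨k, v⟩ e => ?_, by simp; omega⟩)).symm⟩
  have e : y ^ k.toAdd.val * (a 0 ^ (v 0).toAdd.val * a 1 ^ (v 1).toAdd.val * a 2 ^ (v 2).toAdd.val) = 1 := by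
    simpa [f, hφ, hψ] using congrArg Subtype.val e
  have m0 := pow_mem (ha 0) (v 0).toAdd.val
  have m1 := pow_mem (ha 1) (v 1).toAdd.val
  have m2 := pow_mem (ha 2) (v 2).toAdd.val
  have m := mul_mem (mul_mem m0 m1) m2
  have yk : y ^ k.toAdd.val ∈ Om Q := (mul_mem_cancel_right m).1 (e ▸ one_mem _)
  have y2 : y ^ 2 ∈ Ph Q := (sq y).symm ▸ sqP hy
  have k2 : k.toAdd.val = 0 ∨ k.toAdd.val = 2 := by
    have := k.toAdd.val_lt
    by_contra! t
    rcases (by omega : k.toAdd.val = 1 ∨ k.toAdd.val = 3) with s | s <;> rw [s] at yk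
    exacts [y1 (by simpa using yk), y1 ((mul_mem_cancel_left (LO y2)).1 (pow_succ y 2 ▸ yk))]
  have c0 := (C.c_eq_zero _ m).2 ((mul_mem_cancel_left (show y ^ k.toAdd.val ∈ Ph Q by
    rcases k2 with s | s <;> rw [s]; exacts [by simp, y2])).1 (e ▸ one_mem _))
  rw [C.c_mul _ (mul_mem m0 m1) _ m2, C.c_mul _ m0 _ m1, cp _ (ha 0), cp _ (ha 1), cp _ (ha 2), ca, ca, ca] at c0
  have v0 : v = 1 := by revert c0; generalize v = v; revert v; decide +kernel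
  subst v0
  refine Prod.ext (Multiplicative.toAdd.injective ((ZMod.val_eq_zero _).1 (k2.resolve_right fun s => y1 ?_))) rfl
  exact mem_Om.2 ⟨hy, by simpa [s, sq] using e, ab hy⟩

end F7

theorem main7 (hc : Cen (pCore 2 G) ≤ pCore 2 G) (sr : SR G) (e : G ⧸ pCore 2 G ≃* SL3) :
    (IsElementaryAbelian 2 (pCore 2 G) ∧ (Nat.card (pCore 2 G) = 8 ∨ Nat.card (pCore 2 G) = 16)) ∨
      Nonempty (pCore 2 G ≃* Multiplicative (ZMod 4) × (Fin 3 → Multiplicative (ZMod 2))) := by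
  set Q := pCore 2 G
  set π := e.toMonoidHom.comp (QuotientGroup.mk' Q)
  have s : Function.Surjective π := e.surjective.comp (QuotientGroup.mk'_surjective _)
  have k : π.ker = Q := ext fun x => e.map_eq_one_iff.trans (QuotientGroup.eq_one_iff _)
  have p : IsPGroup 2 Q := isPGroup_pCore 2 G
  have : Fact (Nat.Prime 7) := ⟨by norm_num⟩
  have := H8.sl_two_simple (ι := Fin 3) (by simp)
  obtain ⟨a, ha⟩ := exists_prime_orderOf_dvd_card' (G := SL3) 7 (by rw [card_SL3]; norm_num)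
  obtain ⟨g, g7, rfl⟩ := lift_p (p.to_le k.le) s (by norm_num : Odd 7) (ha ▸ pow_orderOf_eq_one a)
  have h : F7 Q g := ⟨sr, inferInstance, p, g7, ntv hc fun r => by rw [show π g = 1 from k.ge r] at ha; simp at ha,
    fun K n l => ((n.map π s).eq_bot_or_eq_top).imp (fun r => k ▸ (Subgroup.map_eq_bot_iff _).1 r) fun r => by
      rw [← comap_map_eq_self (k.le.trans l), r, comap_top],
    by rw [card_eq_card_quotient_mul_card_subgroup Q, Nat.card_congr e.toEquiv, card_SL3]⟩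
  obtain ⟨ab, lg⟩ := ind7 _ G Q g (Nat.lt_succ_self _) h
  by_cases r : Ph Q = ⊥
  · obtain ⟨c1, c2⟩ := h.V lg
    have : 0 < Nat.card ↥(Q ⊓ Cen1 g) := Nat.card_pos
    rw [r, card_bot] at c2
    exact Or.inl ⟨el_ea fun a ha => r.le (sqP ha), by omega⟩
  · exact Or.inr (h.iso ab lg r)

end R4
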